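import Mathlib.Data.List.Basic
import Mathlib.Data.Nat.Bitwise

/-!
Collection in a polycyclic presentation with symbolic tails: the computable part.

A vector is a list of `dim` bitmasks, one linear form over the variables for each coordinate; a state
is a vector together with a word in the lifts.
-/

set_option autoImplicit false

namespace Cfsg.Agent.Lib.H2Cert

/-- A relation `x_j * x_i = tail * word`. -/
structure Rel where
  j : ℕ
  i : ℕ
  word : List ℕ

/-- Conjugation data of one further element: its matrix, the first offset variable, the source and
image words, and the pairs of words that have equal source products. -/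
structure Fus where
  mat : List ℕ
  base : ℕ
  src : List (List ℕ)
  img : List (List ℕ)
  pairs : List (List ℕ × List ℕ)

/-- The data of a presentation with module matrices. -/
structure Pres where
  dim : ℕ
  mats : List (List ℕ)
  rels : List Rel

/-- A letter or a vector. -/
inductive Item where
  | vec (v : List ℕ)
  | gen (i : ℕ)

def vxor (d : ℕ) (a b : List ℕ) : List ℕ :=
  (List.range d).map fun k => Nat.xor (a.getD k 0) (b.getD k 0)

/-- Apply a matrix given by row masks. -/
def actRow (d : ℕ) (r : ℕ) (v : List ℕ) : ℕ :=
  (List.range d).foldr (fun i acc => if r.testBit i then Nat.xor (v.getD i 0) acc else acc) 0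

def actV (d : ℕ) (M v : List ℕ) : List ℕ :=
  (List.range d).map fun k => actRow d (M.getD k 0) v

/-- The vector of variables starting at `base`. -/
def varV (d base : ℕ) : List ℕ := (List.range d).map fun k => Nat.shiftLeft 1 (base + k)

/-- The identity matrix. -/
def idM (d : ℕ) : List ℕ := (List.range d).map fun k => Nat.shiftLeft 1 k

/-- The matrix of a letter; letters without a matrix act trivially. -/
def Pres.mat (D : Pres) (i : ℕ) : List ℕ := D.mats.getD i (idM D.dim)

/-- Action of a word on a vector. -/
def Pres.aw (D : Pres) (w v : List ℕ) : List ℕ :=
  w.foldr (fun i acc => actV D.dim (D.mat i) acc) v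

/-- Search a relation by its left side. -/
def findRel (j i : ℕ) : List Rel → ℕ → Option (ℕ × Rel)
  | [], _ => none
  | r :: rs, t => if r.j == j && r.i == i then some (t, r) else findRel j i rs (t + 1)

/-- Append a letter to a state; `tv t` is the tail of relation `t`. -/
def Pres.feed (D : Pres) (tv : ℕ → List ℕ) :
    ℕ → List ℕ × List ℕ → ℕ → Option (List ℕ × List ℕ)
  | 0, _, _ => none
  | fuel + 1, st, i =>
    match st.2.getLast? with
    | none => some (st.1, [i])
    | some j =>
      if j < i then some (st.1, st.2 ++ [i]) else
        match findRel j i D.rels 0 with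
        | none => none
        | some tr => tr.2.word.foldlM (D.feed tv fuel)
            (vxor D.dim st.1 (D.aw st.2.dropLast (tv tr.1)), st.2.dropLast)

/-- Evaluation of a product of items. -/
def Pres.run (D : Pres) (tv : ℕ → List ℕ) (its : List Item) : Option (List ℕ × List ℕ) :=
  its.foldlM (fun st it =>
    match it with
    | .vec v => some (vxor D.dim st.1 (D.aw st.2 v), st.2)
    | .gen i => D.feed tv 64 st i) ([], [])

/-- The tail variables. -/
def Pres.tvar (D : Pres) (t : ℕ) : List ℕ := varV D.dim (D.dim * t)

/-- Letters of a word. -/
def letters (w : List ℕ) : List Item := w.map Item.gen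

/-- Difference of two products with the same word. -/
def Pres.diff (D : Pres) (a b : List Item) : Option (List ℕ) :=
  match D.run D.tvar a, D.run D.tvar b with
  | some x, some y => if x.2 == y.2 then some (vxor D.dim x.1 y.1) else none
  | _, _ => none

/-- Associativity rows for `x_k * x_j * x_i` with `(j, i)` the left side of relation `t`. -/
def Pres.consRow (D : Pres) (kt : ℕ × ℕ) : Option (List ℕ) :=
  match D.rels[kt.2]? with
  | none => none
  | some r => D.diff [.gen kt.1, .gen r.j, .gen r.i]
      (.gen kt.1 :: .vec (D.tvar kt.2) :: letters r.word)

def Fus.srcItems (F : Fus) (q : List ℕ) : List Item :=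
  q.flatMap fun r => letters (F.src.getD r [])

def Fus.imgItems (F : Fus) (d : ℕ) (q : List ℕ) : List Item :=
  q.flatMap fun r => .vec (varV d (F.base + d * r)) :: letters (F.img.getD r [])

/-- Rows expressing compatibility with conjugation. -/
def Pres.fusRow (D : Pres) (F : Fus) (p : List ℕ × List ℕ) : Option (List ℕ) :=
  match D.diff (F.imgItems D.dim p.1) (F.imgItems D.dim p.2),
    D.diff (F.srcItems p.1) (F.srcItems p.2) with
  | some a, some b => some (vxor D.dim a (actV D.dim F.mat b))
  | _, _ => none

/-- All rows. -/
def Pres.allRows (D : Pres) (cons : List (ℕ × ℕ)) (fus : List Fus) : Option (List ℕ) :=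
  match cons.mapM D.consRow, (fus.flatMap fun F => F.pairs.map fun p => (F, p)).mapM
      (fun Fp => D.fusRow Fp.1 Fp.2) with
  | some a, some b => some ((a ++ b).flatten)
  | _, _ => none

/-- The offset variables occupy consecutive slots and the pairs only mention listed words. -/
def slotsOK (d : ℕ) : ℕ → List Fus → Bool
  | _, [] => true
  | s, F :: fs => F.base == d * s &&
      (F.pairs.all fun p => (p.1 ++ p.2).all fun r => r < F.src.length) &&
      slotsOK d (s + F.src.length) fs

/-- The rows kept by a mask. -/
def select : ℕ → List ℕ → List ℕ
  | _, [] => []
  | m, r :: rs => if m.testBit 0 then r :: select (Nat.shiftRight m 1) rs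
    else select (Nat.shiftRight m 1) rs

/-- Sum of the rows chosen by a mask. -/
def combine : ℕ → List ℕ → ℕ
  | _, [] => 0
  | m, r :: rs => if m.testBit 0 then Nat.xor r (combine (Nat.shiftRight m 1) rs)
    else combine (Nat.shiftRight m 1) rs

/-- The items of a word in the corrected lifts `u_i * x_i`. -/
def newItems (U : List (List ℕ)) (q : List ℕ) : List Item :=
  q.flatMap fun i => [Item.vec (U.getD i []), Item.gen i]

/-- The tails of the corrected lifts. -/
def Pres.newRows (D : Pres) (U : List (List ℕ)) : Option (List ℕ) :=
  (D.rels.mapM fun r => D.diff (newItems U [r.j, r.i]) (newItems U r.word)).map List.flatten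

/-- All tails of the corrected lifts are combinations of the given rows. -/
def certCheck (rows diffs cert : List ℕ) : Bool :=
  diffs.length == cert.length &&
  (diffs.zip cert).all fun p => p.1 == combine p.2 rows

/-- The normal words in the letters `< n`, in increasing order. -/
def normalWords : ℕ → List (List ℕ)
  | 0 => [[]]
  | n + 1 => normalWords n ++ (normalWords n).map (· ++ [n])

/-- Normal words are closed under right multiplication by letters, all tails being trivial. -/
def Pres.closedCheck (D : Pres) (n : ℕ) : Bool :=
  (normalWords n).all fun w => (List.range n).all fun i =>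
    match D.feed (fun _ => []) 64 ([], w) i with
    | some st => decide (st.2 ∈ normalWords n)
    | none => false

end Cfsg.Agent.Lib.H2Cert
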