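import Mathlib
import Cfsg.Agent.Lib.H2Cert.Defs

/-!
Soundness of collection with symbolic tails in a group extension by an elementary abelian 2-group.
-/

set_option autoImplicit false

namespace Cfsg.Agent.Lib.H2Cert

/-- The value of a linear form. -/
noncomputable def evN (σ : ℕ → ZMod 2) (m : ℕ) : ZMod 2 :=
  ∑ᶠ i, if m.testBit i then σ i else 0

theorem finite_support (σ : ℕ → ZMod 2) (m : ℕ) :
    (Function.support fun i => if m.testBit i then σ i else (0 : ZMod 2)).Finite := by
  refine (Set.finite_lt_nat m).subset fun i hi => ?_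
  simp only [Function.mem_support, ne_eq, ite_eq_right_iff, Classical.not_imp] at hi
  exact Nat.lt_of_lt_of_le Nat.lt_two_pow_self (Nat.ge_two_pow_of_testBit hi.1)

@[simp] theorem evN_zero (σ : ℕ → ZMod 2) : evN σ 0 = 0 := by simp [evN]

theorem evN_xor (σ : ℕ → ZMod 2) (a b : ℕ) : evN σ (Nat.xor a b) = evN σ a + evN σ b := by
  rw [evN, evN, evN, ← finsum_add_distrib (finite_support σ a) (finite_support σ b)]
  refine finsum_congr fun i => ?_
  show (if (a ^^^ b).testBit i then σ i else 0) = _
  rw [Nat.testBit_xor]
  cases a.testBit i <;> cases b.testBit i <;> simp [CharTwo.add_self_eq_zero]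

theorem evN_var (σ : ℕ → ZMod 2) (n : ℕ) : evN σ (Nat.shiftLeft 1 n) = σ n := by
  show evN σ (1 <<< n) = σ n
  rw [Nat.one_shiftLeft, evN, finsum_eq_single _ n]
  · simp [Nat.testBit_two_pow_self]
  · intro i hi
    simp [Nat.testBit_two_pow, Ne.symm hi]

theorem evN_add (σ σ' : ℕ → ZMod 2) (m : ℕ) : evN (σ + σ') m = evN σ m + evN σ' m := by
  rw [evN, evN, evN, ← finsum_add_distrib (finite_support σ m) (finite_support σ' m)]
  refine finsum_congr fun i => ?_
  cases m.testBit i <;> simp

variable (d : ℕ)

/-- The value of a vector of linear forms. -/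
noncomputable def evV (σ : ℕ → ZMod 2) (v : List ℕ) : Fin d → ZMod 2 :=
  fun k => evN σ (v.getD k 0)

/-- The linear map of a matrix given by row masks. -/
def mulM (M : List ℕ) (c : Fin d → ZMod 2) : Fin d → ZMod 2 :=
  fun k => ∑ i : Fin d, if (M.getD k 0).testBit i then c i else 0

variable {d}

theorem evV_nil (σ : ℕ → ZMod 2) : evV d σ [] = 0 := by funext k; simp [evV]

theorem getD_map_range {n k : ℕ} (h : k < n) (f : ℕ → ℕ) :
    ((List.range n).map f).getD k 0 = f k := by
  simp [List.getD_eq_getElem?_getD, h]

theorem evV_vxor (σ : ℕ → ZMod 2) (a b : List ℕ) :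
    evV d σ (vxor d a b) = evV d σ a + evV d σ b := by
  funext k
  rw [evV, vxor, getD_map_range k.isLt, evN_xor]
  rfl

theorem evV_varV (σ : ℕ → ZMod 2) (base : ℕ) :
    evV d σ (varV d base) = fun k : Fin d => σ (base + k) := by
  funext k
  rw [evV, varV, getD_map_range k.isLt, evN_var]

theorem evN_foldr (σ : ℕ → ZMod 2) (p : ℕ → Bool) (f : ℕ → ℕ) (l : List ℕ) :
    evN σ (l.foldr (fun i acc => if p i then Nat.xor (f i) acc else acc) 0) =
      (l.map fun i => if p i then evN σ (f i) else 0).sum := by
  induction l with
  | nil => simp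
  | cons a l ih =>
    rw [List.foldr_cons, List.map_cons, List.sum_cons]
    by_cases h : p a = true
    · rw [if_pos h, if_pos h, evN_xor, ih]
    · rw [if_neg h, if_neg h, ih, zero_add]

theorem sum_range_eq_univ_sum {A : Type*} [AddCommMonoid A] (n : ℕ) (f : ℕ → A) :
    ((List.range n).map f).sum = ∑ i : Fin n, f i := by
  rw [Fin.sum_univ_def, ← List.map_coe_finRange_eq_range, List.map_map]
  rfl

theorem evV_actV (σ : ℕ → ZMod 2) (M v : List ℕ) :
    evV d σ (actV d M v) = mulM d M (evV d σ v) := by
  funext k
  rw [evV, actV, getD_map_range k.isLt, actRow, evN_foldr, sum_range_eq_univ_sum]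
  rfl

theorem mulM_idM (c : Fin d → ZMod 2) : mulM d (idM d) c = c := by
  funext k
  rw [mulM, idM, getD_map_range k.isLt]
  rw [Finset.sum_eq_single k]
  · simp [Nat.one_shiftLeft, Nat.testBit_two_pow_self]
  · intro i _ hi
    have : (k : ℕ) ≠ i := fun h => hi (Fin.ext h.symm)
    simp [Nat.one_shiftLeft, Nat.testBit_two_pow, this]
  · simp

variable {E : Type*} [Group E]

/-- An embedding of the module with the action of lifts satisfying the relations up to tails. -/
structure Lifts (D : Pres) (emb : (Fin D.dim → ZMod 2) → E) (x : ℕ → E)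
    (σ : ℕ → ZMod 2) (tv : ℕ → List ℕ) : Prop where
  emb_add : ∀ a b, emb (a + b) = emb a * emb b
  act : ∀ i c, x i * emb c * (x i)⁻¹ = emb (mulM D.dim (D.mat i) c)
  rel : ∀ t r, D.rels[t]? = some r →
    x r.j * x r.i = emb (evV D.dim σ (tv t)) * (r.word.map x).prod

/-- The value of a state. -/
noncomputable def sval (d : ℕ) (emb : (Fin d → ZMod 2) → E) (x : ℕ → E) (σ : ℕ → ZMod 2)
    (st : List ℕ × List ℕ) : E :=
  emb (evV d σ st.1) * (st.2.map x).prod

/-- The value of an item. -/
noncomputable def ival (d : ℕ) (emb : (Fin d → ZMod 2) → E) (x : ℕ → E) (σ : ℕ → ZMod 2) :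
    Item → E
  | .vec v => emb (evV d σ v)
  | .gen i => x i

theorem findRel_spec {j i : ℕ} : ∀ {l : List Rel} {t₀ t : ℕ} {r : Rel},
    findRel j i l t₀ = some (t, r) → t₀ ≤ t ∧ l[t - t₀]? = some r ∧ r.j = j ∧ r.i = i := by
  intro l
  induction l with
  | nil => intro t₀ t r h; simp [findRel] at h
  | cons a l ih =>
    intro t₀ t r h
    rw [findRel] at h
    split at h
    next hc =>
      simp only [Bool.and_eq_true, beq_iff_eq] at hc
      simp only [Option.some.injEq, Prod.mk.injEq] at h
      obtain ⟨rfl, rfl⟩ := h
      exact ⟨le_rfl, by simp, hc.1, hc.2⟩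
    next =>
      obtain ⟨h1, h2, h3⟩ := ih h
      refine ⟨by omega, ?_, h3⟩
      rw [show t - t₀ = (t - (t₀ + 1)) + 1 by omega, List.getElem?_cons_succ]
      exact h2

variable {D : Pres} {emb : (Fin D.dim → ZMod 2) → E} {x : ℕ → E} {σ : ℕ → ZMod 2}
  {tv : ℕ → List ℕ}

theorem Lifts.emb_zero (L : Lifts D emb x σ tv) : emb 0 = 1 := by
  have h := L.emb_add 0 0
  rw [add_zero] at h
  exact (mul_eq_left.1 h.symm)

theorem Lifts.aw (L : Lifts D emb x σ tv) (w v : List ℕ) :
    (w.map x).prod * emb (evV D.dim σ v) =
      emb (evV D.dim σ (D.aw w v)) * (w.map x).prod := by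
  induction w with
  | nil => simp [Pres.aw]
  | cons a w ih =>
    rw [List.map_cons, List.prod_cons, mul_assoc, ih, ← mul_assoc,
      show D.aw (a :: w) v = actV D.dim (D.mat a) (D.aw w v) from rfl, evV_actV, ← L.act]
    group

theorem Lifts.feed (L : Lifts D emb x σ tv) : ∀ (fuel : ℕ) (st : List ℕ × List ℕ) (i : ℕ)
    (st' : List ℕ × List ℕ), D.feed tv fuel st i = some st' →
      sval D.dim emb x σ st' = sval D.dim emb x σ st * x i := by
  intro fuel
  induction fuel with
  | zero => intro st i st' h; simp [Pres.feed] at h
  | succ f ih =>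
    intro st i st' h
    rw [Pres.feed] at h
    split at h
    next hl =>
      rw [List.getLast?_eq_none_iff] at hl
      obtain rfl := Option.some.inj h
      simp [sval, hl]
    next j hl =>
      split at h
      next =>
        obtain rfl := Option.some.inj h
        simp [sval, mul_assoc]
      next =>
        split at h
        next => simp at h
        next tr hf =>
          obtain ⟨t, r⟩ := tr
          obtain ⟨-, h2, h3, h4⟩ := findRel_spec hf
          have hfold : ∀ (w : List ℕ) (s : List ℕ × List ℕ) (s' : List ℕ × List ℕ),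
              w.foldlM (D.feed tv f) s = some s' →
                sval D.dim emb x σ s' = sval D.dim emb x σ s * (w.map x).prod := by
            intro w
            induction w with
            | nil => intro s s' hs; obtain rfl := Option.some.inj hs; simp
            | cons a w ihw =>
              intro s s' hs
              rw [List.foldlM_cons, Option.bind_eq_bind, Option.bind_eq_some_iff] at hs
              obtain ⟨s1, e1, e2⟩ := hs
              rw [ihw _ _ e2, ih _ _ _ e1, List.map_cons, List.prod_cons, mul_assoc]
          rw [hfold _ _ _ h]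
          have hw : st.2 = st.2.dropLast ++ [j] :=
            (List.dropLast_append_getLast? j hl).symm
          have hrel := L.rel t r (by simpa using h2)
          rw [h3, h4] at hrel
          simp only [sval, evV_vxor, L.emb_add]
          conv_rhs => rw [hw]
          simp only [List.map_append, List.prod_append, List.map_cons, List.map_nil,
            List.prod_cons, List.prod_nil, mul_one, mul_assoc, hrel]
          congr 1
          rw [← mul_assoc, ← L.aw, mul_assoc]

theorem Lifts.run (L : Lifts D emb x σ tv) {its : List Item} {st : List ℕ × List ℕ}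
    (h : D.run tv its = some st) :
    sval D.dim emb x σ st = (its.map (ival D.dim emb x σ)).prod := by
  rw [Pres.run] at h
  have key : ∀ (its : List Item) (s s' : List ℕ × List ℕ),
      its.foldlM (fun st it =>
        match it with
        | .vec v => some (vxor D.dim st.1 (D.aw st.2 v), st.2)
        | .gen i => D.feed tv 64 st i) s = some s' →
      sval D.dim emb x σ s' = sval D.dim emb x σ s * (its.map (ival D.dim emb x σ)).prod := by
    intro its
    induction its with
    | nil => intro s s' hs; obtain rfl := Option.some.inj hs; simp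
    | cons a its iht =>
      intro s s' hs
      rw [List.foldlM_cons, Option.bind_eq_bind, Option.bind_eq_some_iff] at hs
      obtain ⟨s1, e1, e2⟩ := hs
      rw [iht _ _ e2, List.map_cons, List.prod_cons, ← mul_assoc]
      congr 1
      cases a with
      | gen i => exact L.feed _ _ _ _ e1
      | vec v =>
        obtain rfl := Option.some.inj e1
        simp only [sval, evV_vxor, L.emb_add, ival, mul_assoc, L.aw]
  rw [key _ _ _ h]
  simp [sval, evV_nil, L.emb_zero]

theorem Lifts.diff (L : Lifts D emb x σ D.tvar) {a b : List Item} {v : List ℕ}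
    (h : D.diff a b = some v) :
    (a.map (ival D.dim emb x σ)).prod =
      emb (evV D.dim σ v) * (b.map (ival D.dim emb x σ)).prod := by
  unfold Pres.diff at h
  split at h
  next p q hp hq =>
    split at h
    next hw =>
      obtain rfl := Option.some.inj h
      rw [← L.run hp, ← L.run hq]
      simp only [sval, (beq_iff_eq).1 hw, ← mul_assoc, ← L.emb_add, evV_vxor]
      congr 2
      funext k
      simp only [Pi.add_apply, add_assoc, CharTwo.add_self_eq_zero, add_zero]
    next => simp at h
  next => simp at h

end Cfsg.Agent.Lib.H2Cert
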