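import Cfsg.Agent.Lib.H2Cert.Split

/-!
Two extensions by the same module whose classes agree are isomorphic: the quotient of the fibre
product by the diagonal copy of the module splits, and a complement is the graph of an isomorphism.
-/

set_option autoImplicit false

namespace Cfsg.Agent.Lib.H2Cert

variable {E E' G : Type*} [Group E] [Group E'] [Group G]
variable {D : Pres} {π : E →* G} {π' : E' →* G}
variable {emb : (Fin D.dim → ZMod 2) → E} {emb' : (Fin D.dim → ZMod 2) → E'}
variable {x : ℕ → E} {x' : ℕ → E'} {σ σ' : ℕ → ZMod 2}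

theorem Ext.map_emb (X : Ext D.dim π emb) (c : Fin D.dim → ZMod 2) : π (emb c) = 1 :=
  (X.ker _).2 ⟨c, rfl⟩

theorem Ext.emb_inv (X : Ext D.dim π emb) (c : Fin D.dim → ZMod 2) : (emb c)⁻¹ = emb c := by
  apply inv_eq_of_mul_eq_one_right
  rw [← X.emb_add, ← X.emb_zero]
  congr 1
  funext k
  exact CharTwo.add_self_eq_zero _

theorem Ext.card (X : Ext D.dim π emb) : Nat.card E = Nat.card G * 2 ^ D.dim := by
  rw [← Subgroup.index_mul_card π.ker, Subgroup.index_ker, MonoidHom.range_eq_top.2 X.surj,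
    Subgroup.card_top]
  congr 1
  rw [← SetLike.coe_sort_coe, show ((π.ker : Subgroup E) : Set E) = Set.range emb from
    Set.ext fun e => X.ker e, Nat.card_range_of_injective X.inj]
  simp

/-- Extensions with lifts whose tails differ by a coboundary, certified on the sum, are isomorphic. -/
theorem nonempty_mulEquiv [Finite E] [Finite E'] [Finite G] (X : Ext D.dim π emb)
    (X' : Ext D.dim π' emb')
    (hcompat : ∀ e e', π e = π' e' → ∀ c, ∃ c', e * emb c * e⁻¹ = emb c' ∧
      e' * emb' c * e'⁻¹ = emb' c')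
    (Xg : ℕ → G) (hx : ∀ i, π (x i) = Xg i) (hx' : ∀ i, π' (x' i) = Xg i)
    (L : Lifts D emb x σ D.tvar) (L' : Lifts D emb' x' σ' D.tvar) {U : List (List ℕ)}
    {T : List ℕ} (hT : D.newRows U = some T) (hzero : ∀ r ∈ T, evN (σ + σ') r = 0) {n : ℕ}
    (hclosed : D.closedCheck n = true)
    (hnodup : ((normalWords n).map fun w => (w.map Xg).prod).Nodup)
    (hodd : Nat.Coprime 2 (Nat.card G / (normalWords n).length)) :
    Nonempty (E ≃* E') := by
  let Y : Subgroup (E × E') :=
    (π.comp (MonoidHom.fst E E')).eqLocus (π'.comp (MonoidHom.snd E E'))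
  have hY : ∀ a : E × E', a ∈ Y ↔ π a.1 = π' a.2 := fun a => Iff.rfl
  let M : Subgroup Y :=
    { carrier := {y | ∃ c, (y : E × E') = (emb c, emb' c)}
      one_mem' := ⟨0, by rw [X.emb_zero, X'.emb_zero]; rfl⟩
      mul_mem' := by
        rintro a b ⟨c, hc⟩ ⟨c', hc'⟩
        exact ⟨c + c', by rw [Subgroup.coe_mul, hc, hc', X.emb_add, X'.emb_add]; rfl⟩
      inv_mem' := by
        rintro a ⟨c, hc⟩
        exact ⟨c, by rw [Subgroup.coe_inv, hc, Prod.inv_mk, X.emb_inv, X'.emb_inv]⟩ }
  have hMn : M.Normal := ⟨fun m hm y => by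
    obtain ⟨c, hc⟩ := hm
    obtain ⟨c', h1, h2⟩ := hcompat _ _ ((hY _).1 y.2) c
    refine ⟨c', ?_⟩
    rw [Subgroup.coe_mul, Subgroup.coe_mul, Subgroup.coe_inv, hc]
    exact Prod.ext h1 h2⟩
  let ρ : Y →* G := (π.comp (MonoidHom.fst E E')).comp Y.subtype
  let π₂ : Y ⧸ M →* G := QuotientGroup.lift M ρ fun y hy => by
    obtain ⟨c, hc⟩ := hy
    show π (y : E × E').1 = 1
    rw [hc]; exact X.map_emb c
  let left : (Fin D.dim → ZMod 2) → Y := fun c => ⟨(emb c, 1), by
    rw [hY]; simp [X.map_emb]⟩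
  let emb₂ : (Fin D.dim → ZMod 2) → Y ⧸ M := fun c => QuotientGroup.mk (left c)
  let x₂ : ℕ → Y ⧸ M := fun i => QuotientGroup.mk ⟨(x i, x' i), by rw [hY, hx, hx']⟩
  have h₂ : ∀ (a b : Y), (QuotientGroup.mk a : Y ⧸ M) = QuotientGroup.mk b ↔
      ∃ c, ((a⁻¹ * b : Y) : E × E') = (emb c, emb' c) := fun a b => QuotientGroup.eq
  -- a pair of module elements becomes their sum
  have hpair : ∀ (a b : Fin D.dim → ZMod 2) (m : Y), (m : E × E') = (emb a, emb' b) →
      (QuotientGroup.mk m : Y ⧸ M) = emb₂ (a + b) := by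
    intro a b m hm
    rw [h₂]
    refine ⟨b, ?_⟩
    rw [Subgroup.coe_mul, Subgroup.coe_inv, hm, Prod.inv_mk, X.emb_inv, X'.emb_inv]
    refine Prod.ext ?_ (mul_one _)
    show emb a * emb (a + b) = emb b
    rw [← X.emb_add]
    congr 1
    funext k
    simp [← add_assoc, CharTwo.add_self_eq_zero]
  have X₂ : Ext D.dim π₂ emb₂ := by
    refine ⟨fun g => ?_, ?_, ?_, ?_⟩
    · obtain ⟨e, he⟩ := X.surj g
      obtain ⟨e', he'⟩ := X'.surj g
      exact ⟨QuotientGroup.mk ⟨(e, e'), by rw [hY, he, he']⟩, he⟩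
    · intro a b h
      obtain ⟨c, hc⟩ := (h₂ _ _).1 h
      have h1 : (emb a)⁻¹ * emb b = emb c := congrArg Prod.fst hc
      have h2 : (1 : E')⁻¹ * 1 = emb' c := congrArg Prod.snd hc
      have : c = 0 := X'.inj (by rw [← h2, X'.emb_zero, inv_one, mul_one])
      rw [this, X.emb_zero, inv_mul_eq_one] at h1
      exact X.inj h1
    · intro a b
      show (QuotientGroup.mk _ : Y ⧸ M) = QuotientGroup.mk (left a * left b)
      congr 1
      exact Subtype.ext (Prod.ext (X.emb_add a b) (one_mul 1).symm)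
    · intro q
      constructor
      · induction q using QuotientGroup.induction_on with
        | H y =>
          intro h
          have h1 : π (y : E × E').1 = 1 := h
          obtain ⟨a, ha⟩ := (X.ker _).1 h1
          obtain ⟨b, hb⟩ := (X'.ker _).1 ((hY _).1 y.2 ▸ h1)
          exact ⟨a + b, (hpair a b y (Prod.ext ha.symm hb.symm)).symm⟩
      · rintro ⟨c, rfl⟩
        exact X.map_emb c
  have L₂ : Lifts D emb₂ x₂ (σ + σ') D.tvar := by
    refine ⟨X₂.emb_add, fun i c => ?_, fun t r hr => ?_⟩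
    · show (QuotientGroup.mk (_ * left c * _⁻¹) : Y ⧸ M) = QuotientGroup.mk _
      congr 1
      refine Subtype.ext (Prod.ext (L.act i c) ?_)
      show x' i * 1 * (x' i)⁻¹ = 1
      group
    · have hprod : ∀ w : List ℕ, (w.map x₂).prod =
          (QuotientGroup.mk (⟨((w.map x).prod, (w.map x').prod), by
            rw [hY, map_prod_map π hx, map_prod_map π' hx']⟩ : Y) : Y ⧸ M) := by
        intro w
        induction w with
        | nil => rfl
        | cons a w ih => rw [List.map_cons, List.prod_cons, ih]; rfl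
      have hev : evV D.dim (σ + σ') (D.tvar t) = evV D.dim σ (D.tvar t) + evV D.dim σ' (D.tvar t) :=
        funext fun k => evN_add σ σ' _
      rw [hev, ← hpair _ _ ⟨(emb (evV D.dim σ (D.tvar t)), emb' (evV D.dim σ' (D.tvar t))), by
        rw [hY]; simp [X.map_emb, X'.map_emb]⟩ rfl, hprod]
      show (QuotientGroup.mk (_ * _) : Y ⧸ M) = QuotientGroup.mk (_ * _)
      congr 1
      exact Subtype.ext (Prod.ext (L.rel t r hr) (L'.rel t r hr))
  obtain ⟨H, hH⟩ := exists_complement X₂ Xg (fun i => hx i) L₂ hT hzero hclosed hnodup hodd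
  -- the preimage of the complement is a graph
  let K : Subgroup Y := H.comap (QuotientGroup.mk' M)
  have hsurj : ∀ e : E, ∃ y ∈ K, (y : E × E').1 = e := by
    intro e
    obtain ⟨e', he'⟩ := X'.surj (π e)
    let y : Y := ⟨(e, e'), by rw [hY, he']⟩
    obtain ⟨⟨k, h⟩, hkh⟩ := hH.2 (QuotientGroup.mk y : Y ⧸ M)
    obtain ⟨c, hc⟩ := (X₂.ker _).1 (MonoidHom.mem_ker.1 k.2)
    simp only at hkh
    have hyK : left c * y ∈ K := by
      show (QuotientGroup.mk (left c) : Y ⧸ M) * QuotientGroup.mk y ∈ H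
      rw [← hkh, ← hc, ← mul_assoc]
      show emb₂ c * emb₂ c * _ ∈ H
      rw [← X₂.emb_add, show c + c = 0 from funext fun k => CharTwo.add_self_eq_zero _,
        X₂.emb_zero, one_mul]
      exact h.2
    have hm : (⟨(emb c, emb' c), by rw [hY]; simp [X.map_emb, X'.map_emb]⟩ : Y) ∈ K := by
      show (QuotientGroup.mk _ : Y ⧸ M) ∈ H
      rw [(QuotientGroup.eq_one_iff (N := M) _).2 (show _ ∈ M from ⟨c, rfl⟩)]
      exact one_mem H
    refine ⟨_, K.mul_mem hm hyK, ?_⟩
    show emb c * (emb c * e) = e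
    rw [← mul_assoc, ← X.emb_add, show c + c = 0 from funext fun k => CharTwo.add_self_eq_zero _,
      X.emb_zero, one_mul]
  have hinj : ∀ y ∈ K, (y : E × E').1 = 1 → y = 1 := by
    intro y hy h1
    have h2 : (QuotientGroup.mk y : Y ⧸ M) ∈ π₂.ker ⊓ H := ⟨by
      show π (y : E × E').1 = 1
      rw [h1, map_one], hy⟩
    rw [(Subgroup.IsComplement'.disjoint hH).eq_bot, Subgroup.mem_bot,
      QuotientGroup.eq_one_iff] at h2
    obtain ⟨c, hc⟩ := h2
    have : c = 0 := X.inj (by rw [X.emb_zero, ← h1, hc])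
    refine Subtype.ext ?_
    rw [hc, this, X.emb_zero, X'.emb_zero]
    rfl
  have hcard : Nat.card E' = Nat.card E := by rw [X.card, X'.card]
  let f : K →* E := (MonoidHom.fst E E').comp (Y.subtype.comp K.subtype)
  have hf : Function.Bijective f := by
    refine ⟨(injective_iff_map_eq_one f).2 fun y hy => Subtype.ext (hinj _ y.2 hy), fun e => ?_⟩
    obtain ⟨y, hy, he⟩ := hsurj e
    exact ⟨⟨y, hy⟩, he⟩
  let f' : E →* E' :=
    ((MonoidHom.snd E E').comp (Y.subtype.comp K.subtype)).comp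
      (MulEquiv.ofBijective f hf).symm.toMonoidHom
  refine ⟨MulEquiv.ofBijective f' ?_⟩
  have hinj' : Function.Injective f' := by
    rw [injective_iff_map_eq_one]
    intro e he
    let k : K := (MulEquiv.ofBijective f hf).symm e
    have hk : f k = e := (MulEquiv.ofBijective f hf).apply_symm_apply e
    have h2 : ((k : Y) : E × E').2 = 1 := he
    have hπ : π e = 1 := by
      rw [← hk]
      show π ((k : Y) : E × E').1 = 1
      rw [(hY _).1 (k : Y).2, h2, map_one]
    have h3 : (QuotientGroup.mk (k : Y) : Y ⧸ M) ∈ π₂.ker ⊓ H := ⟨by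
      show π ((k : Y) : E × E').1 = 1
      show π (f k) = 1
      rw [hk]; exact hπ, k.2⟩
    rw [(Subgroup.IsComplement'.disjoint hH).eq_bot, Subgroup.mem_bot,
      QuotientGroup.eq_one_iff] at h3
    obtain ⟨c, hc⟩ := h3
    have : c = 0 := X'.inj (by rw [X'.emb_zero, ← h2, hc])
    rw [← hk]
    show ((k : Y) : E × E').1 = 1
    rw [hc, this, X.emb_zero]
  exact hinj'.bijective_of_nat_card_le hcard.le

end Cfsg.Agent.Lib.H2Cert
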