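import Cfsg.Agent.Lib.H2Cert.Defs

/-!
Generated certificate data: a Sylow 2-subgroup of M23 by a polycyclic sequence, fusion elements
and the word basis.  Code point `i < 23` is the residue `i`, code point `23` is `none`.
-/

set_option autoImplicit false

namespace Cfsg.Agent.Lib.H2Cert.M23

/-- Pivot positions of the word basis. -/
def pivots : List ℕ := [12, 13, 14, 15, 16, 17, 18, 19, 20, 21, 22]

/-- Reduced basis of the words vanishing at the point 23. -/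
def basis : List ℕ := [0x149f, 0x293e, 0x46e3, 0x8dc6, 0x10f13, 0x20ab9, 0x401ed, 0x803da, 0x1007b4, 0x200f68, 0x400a4f]

/-- The polycyclic sequence, as codes of permutations with inverses. -/
def pc : List (ℕ × ℕ) :=
  [(0x17000e131507060b0f091014010d04020a110c0512160308, 0x1702130c1403060d0f150a0510070e001211040901080b16),
   (0x1708100a130506150f0e030c071401160b1112040d020900, 0x1708100a130506150f0e030c071401160b1112040d020900),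
   (0x17080d13120b11070f050a15140c04160906031001000e02, 0x17080c0b141311040f01150a120d071610060e0905000302),
   (0x17160d040907110b0f01150a100c13081206031405020e00, 0x17160d040907110b0f01150a100c13081206031405020e00),
   (0x17161415030a11010f0b04070e1205080c06090d13021000, 0x17161415030a11010f0b04070e1205080c06090d13021000),
   (0x17160110070911140f0d0e030405120813060a0b0c021500, 0x17160110070911140f0d0e030405120813060a0b0c021500),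
   (0x17160509041011120f0c030e070114080b0615130d020a00, 0x17160509041011120f0c030e070114080b0615130d020a00)]

/-- The relations. -/
def rels : List Rel :=
  [⟨0, 0, [2, 3, 4, 5, 6]⟩,
   ⟨1, 1, []⟩,
   ⟨2, 2, [5, 6]⟩,
   ⟨3, 3, []⟩,
   ⟨4, 4, []⟩,
   ⟨5, 5, []⟩,
   ⟨6, 6, []⟩,
   ⟨1, 0, [0, 1, 2, 3, 4]⟩,
   ⟨2, 0, [0, 2, 4, 6]⟩,
   ⟨2, 1, [1, 2, 4, 5, 6]⟩,
   ⟨3, 0, [0, 3, 4, 5]⟩,
   ⟨3, 1, [1, 3, 4, 5, 6]⟩,
   ⟨3, 2, [2, 3, 5, 6]⟩,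
   ⟨4, 0, [0, 4, 5]⟩,
   ⟨4, 1, [1, 4, 6]⟩,
   ⟨4, 2, [2, 4, 6]⟩,
   ⟨4, 3, [3, 4]⟩,
   ⟨5, 0, [0, 5, 6]⟩,
   ⟨5, 1, [1, 5, 6]⟩,
   ⟨5, 2, [2, 5]⟩,
   ⟨5, 3, [3, 5]⟩,
   ⟨5, 4, [4, 5]⟩,
   ⟨6, 0, [0, 6]⟩,
   ⟨6, 1, [1, 6]⟩,
   ⟨6, 2, [2, 6]⟩,
   ⟨6, 3, [3, 6]⟩,
   ⟨6, 4, [4, 6]⟩,
   ⟨6, 5, [5, 6]⟩]

/-- Basis words as sums of translates, the all-ones word and the point word at 23. -/
def basisCombs : List (List ℕ × ℕ × ℕ) :=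
  [([0, 3, 4, 6, 8], 0, 0),
   ([1, 4, 5, 7, 9], 0, 0),
   ([0, 2, 3, 4, 5, 10], 0, 0),
   ([0, 3, 4, 7, 9], 0, 0),
   ([0, 1, 3, 5, 6, 10], 0, 0),
   ([2, 3, 5, 6, 8, 9], 0, 0),
   ([0, 7, 8, 9, 10], 0, 0),
   ([0, 5, 6, 7, 8, 10], 0, 0),
   ([0, 5, 8], 0, 0),
   ([1, 6, 9], 0, 0),
   ([0, 2, 3, 4, 6, 7, 8, 10], 0, 0)]

/-- Point words reduced by the pivots as sums of the same words. -/
def pointCombs : List (List ℕ × ℕ × ℕ) :=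
  [([0, 3, 5, 7, 9, 10], 1, 1),
   ([3, 4, 8], 0, 0),
   ([0, 3, 4, 7, 10], 1, 1),
   ([3, 4, 5, 6, 8, 10], 0, 0),
   ([1, 3, 4, 5, 7, 9, 10], 1, 1),
   ([0, 1, 2, 4, 7, 8, 9, 10], 1, 1),
   ([0, 2, 3, 6, 7, 8, 10], 1, 1),
   ([4, 6, 7, 8, 9, 10], 0, 0),
   ([0, 1, 6, 8, 10], 0, 0),
   ([0, 2, 5, 6], 0, 0),
   ([0, 1, 5, 6, 9, 10], 1, 1),
   ([0, 2, 5, 9, 10], 1, 1),
   ([], 0, 0),
   ([], 0, 0),
   ([], 0, 0),
   ([], 0, 0),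
   ([], 0, 0),
   ([], 0, 0),
   ([], 0, 0),
   ([], 0, 0),
   ([], 0, 0),
   ([], 0, 0),
   ([], 0, 0),
   ([], 0, 1)]

end Cfsg.Agent.Lib.H2Cert.M23
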