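import Cfsg.Agent.Lib.H2Cert.Split
import Cfsg.Agent.Lib.H2Cert.M23Data
import Cfsg.Agent.Lib.Fusion.Mathieu.Identify

/-!
The certified elements of `Cfsg.Spor.M23` and the words spanned by the certified basis.
-/

set_option autoImplicit false

namespace Cfsg.Agent.Lib.H2Cert.M23

open Cfsg.Agent.Lib.Compute Cfsg.Agent.Lib.Compute.Mathieu

/-- The identity with its inverse. -/
def idPair : ℕ × ℕ :=
  (0x17161514131211100f0e0d0c0b0a09080706050403020100, 0x17161514131211100f0e0d0c0b0a09080706050403020100)

/-- A code pair is one of a permutation in the certified group. -/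
noncomputable def goodPair (p : ℕ × ℕ) : Bool := pairCheck 8 24 m23Chain p

/-- The element of a code pair. -/
noncomputable def elt (p : ℕ × ℕ) : ↥Cfsg.Spor.M23 :=
  open Classical in
  if h : ∃ g : ↥Cfsg.Spor.M23, ptCoding.enc (g : Equiv.Perm Cfsg.GolayPt) = p.1 then h.choose
  else 1

theorem elt_spec {p : ℕ × ℕ} (h : goodPair p = true) :
    ptCoding.enc (elt p : Equiv.Perm Cfsg.GolayPt) = p.1 ∧
      ptCoding.enc ((elt p : Equiv.Perm Cfsg.GolayPt))⁻¹ = p.2 := by
  unfold goodPair pairCheck at h
  simp only [Bool.and_eq_true] at h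
  obtain ⟨⟨⟨hc, h1⟩, h2⟩, hs⟩ := h
  obtain ⟨g, -, e1, e2⟩ := pairOK_of_permCheck ptEquiv (w := 8) (by decide) hc
    (Nat.eq_of_beq_eq_true h1) (Nat.eq_of_beq_eq_true h2)
  have e1' : ptCoding.enc g = p.1 := e1
  have hg : g ∈ Cfsg.Spor.M23 := by
    rw [Fusion.Mathieu.eq_m23]
    exact good_of_sift ptCoding gensOK_m23 m23Chain_ok (e1'.symm ▸ hs)
  have hex : ∃ g : ↥Cfsg.Spor.M23, ptCoding.enc (g : Equiv.Perm Cfsg.GolayPt) = p.1 :=
    ⟨⟨g, hg⟩, e1'⟩
  rw [elt, dif_pos hex]
  have : (hex.choose : Equiv.Perm Cfsg.GolayPt) = g :=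
    ptCoding.inj (hex.choose_spec.trans e1'.symm)
  rw [this]
  exact ⟨e1', e2⟩

theorem getP_elt {p : ℕ × ℕ} (h : goodPair p = true) (q : Cfsg.GolayPt) :
    (ptEquiv ((elt p : Equiv.Perm Cfsg.GolayPt) q) : ℕ) = getP 8 p.1 (ptEquiv q) ∧
      (ptEquiv ((elt p : Equiv.Perm Cfsg.GolayPt)⁻¹ q) : ℕ) = getP 8 p.2 (ptEquiv q) := by
  obtain ⟨h1, h2⟩ := elt_spec h
  constructor
  · rw [← h1]
    exact (Fusion.Mathieu.getP_enc_apply ptEquiv (by decide) _ q).symm
  · rw [← h2]
    exact (Fusion.Mathieu.getP_enc_apply ptEquiv (by decide) _ q).symm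

theorem pc_good : (idPair :: pc).all goodPair = true := by decide +kernel

/-- The code pair of a letter. -/
def pcPair (i : ℕ) : ℕ × ℕ := pc.getD i idPair

/-- The elements of the polycyclic sequence. -/
noncomputable def gen (i : ℕ) : ↥Cfsg.Spor.M23 := elt (pcPair i)

theorem pcPair_good (i : ℕ) : goodPair (pcPair i) = true := by
  refine List.all_eq_true.1 pc_good _ ?_
  unfold pcPair
  rw [List.getD_eq_getElem?_getD]
  rcases h : pc[i]? with _ | p
  · exact List.mem_cons_self ..
  · exact List.mem_cons_of_mem _ (List.mem_of_getElem? h)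

theorem gen_one {i : ℕ} (h : 7 ≤ i) : gen i = 1 := by
  have : pcPair i = idPair := by
    simp only [pcPair, List.getD_eq_getElem?_getD]
    rw [List.getElem?_eq_none (by simpa [pc] using h), Option.getD_none]
  apply Subtype.ext
  apply ptCoding.inj
  rw [gen, (elt_spec (pcPair_good i)).1, this]
  show idPair.1 = ptCoding.enc 1
  rw [ptCoding.one_enc]
  decide +kernel

/-- The code of a product of letters. -/
noncomputable def codeProd (w : List ℕ) : ℕ :=
  w.foldr (fun i acc => (permOps 8 24).mul (pcPair i).1 acc) (permOps 8 24).one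

theorem enc_prod (w : List ℕ) :
    ptCoding.enc ((w.map gen).prod : ↥Cfsg.Spor.M23) = codeProd w := by
  induction w with
  | nil => simpa [codeProd] using ptCoding.one_enc
  | cons a w ih =>
    rw [List.map_cons, List.prod_cons, Subgroup.coe_mul]
    show _ = (permOps 8 24).mul (pcPair a).1 (codeProd w)
    rw [← ih, ← (elt_spec (pcPair_good a)).1]
    exact (ptCoding.mul_enc _ _).symm

theorem eq_of_codeProd {v w : List ℕ} (h : codeProd v = codeProd w) :
    (v.map gen).prod = (w.map gen).prod :=
  Subtype.ext (ptCoding.inj (by rw [enc_prod, enc_prod, h]))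

theorem rels_code : rels.all (fun r => codeProd [r.j, r.i] == codeProd r.word) = true := by
  decide +kernel

theorem gen_rel : ∀ r ∈ rels, gen r.j * gen r.i = (r.word.map gen).prod := by
  intro r hr
  have h := eq_of_codeProd (beq_iff_eq.1 (List.all_eq_true.1 rels_code r hr))
  simpa using h

/-- Conjugation by a certified element carries the source words to the image words. -/
noncomputable def fusCheck (p : ℕ × ℕ) (F : Fus) : Bool :=
  goodPair p && (List.range F.src.length).all fun r =>
    (permOps 8 24).mul p.1 ((permOps 8 24).mul (codeProd (F.src.getD r [])) p.2) ==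
      codeProd (F.img.getD r [])

theorem fusCheck_spec {p : ℕ × ℕ} {F : Fus} (h : fusCheck p F = true) :
    ∀ r < F.src.length, elt p * ((F.src.getD r []).map gen).prod * (elt p)⁻¹ =
      ((F.img.getD r []).map gen).prod := by
  intro r hr
  simp only [fusCheck, Bool.and_eq_true, List.all_eq_true, List.mem_range, beq_iff_eq] at h
  have h' := h.2 r hr
  obtain ⟨h1, h2⟩ := elt_spec h.1
  rw [← enc_prod, ← enc_prod, ← h1, ← h2, ptCoding.mul_enc, ptCoding.mul_enc] at h'
  apply Subtype.ext
  rw [Subgroup.coe_mul, Subgroup.coe_mul, Subgroup.coe_inv, mul_assoc]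
  exact ptCoding.inj h'

theorem words_code : ((normalWords 7).map codeProd).Nodup := by decide +kernel

theorem words_nodup : ((normalWords 7).map fun w => (w.map gen).prod).Nodup := by
  refine List.Nodup.map_on ?_ ?_
  · intro v hv w hw h
    refine List.inj_on_of_nodup_map words_code hv hw ?_
    rw [← enc_prod, ← enc_prod, h]
  · exact List.Nodup.of_map _ words_code

theorem odd_index : Nat.Coprime 2 (Nat.card ↥Cfsg.Spor.M23 / (normalWords 7).length) := by
  rw [Fusion.Mathieu.eq_m23, card_m23]
  decide +kernel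

/-- Bit `q` of the `k`-th basis word. -/
def bit (k : Fin 11) (q : Cfsg.GolayPt) : ZMod 2 :=
  if (basis.getD k 0).testBit (ptEquiv q) then 1 else 0

/-- The point at a pivot. -/
def pivot (k : Fin 11) : Cfsg.GolayPt := ptEquiv.symm (Fin.ofNat 24 (pivots.getD k 0))

theorem bit_pivot : ∀ j k : Fin 11, bit j (pivot k) = if j = k then 1 else 0 := by decide +kernel

theorem pivot_injective : Function.Injective pivot := by decide +kernel

/-- The word with the given coordinates. -/
def toWord : (Fin 11 → ZMod 2) →+ (Cfsg.GolayPt → ZMod 2) where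
  toFun c q := ∑ k, bit k q * c k
  map_zero' := by funext q; simp
  map_add' a b := by funext q; simp [mul_add, Finset.sum_add_distrib]

/-- The functionals given by the basis. -/
def toFun : (Cfsg.GolayPt → ZMod 2) →+ (Fin 11 → ZMod 2) where
  toFun w k := ∑ q, bit k q * w q
  map_zero' := by funext q; simp
  map_add' a b := by funext q; simp [mul_add, Finset.sum_add_distrib]

/-- The sum of unit words at the pivots. -/
def toPivots : (Fin 11 → ZMod 2) →+ (Cfsg.GolayPt → ZMod 2) where
  toFun c := ∑ k, Pi.single (pivot k) (c k)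
  map_zero' := by simp
  map_add' a b := by simp [Pi.single_add, Finset.sum_add_distrib]

theorem toPivots_apply (c : Fin 11 → ZMod 2) :
    toPivots c = ∑ k, Pi.single (pivot k) (c k) := rfl

theorem toFun_apply (w : Cfsg.GolayPt → ZMod 2) (k : Fin 11) :
    toFun w k = ∑ q, bit k q * w q := rfl

theorem toWord_pivot (c : Fin 11 → ZMod 2) (k : Fin 11) : toWord c (pivot k) = c k := by
  show ∑ j, bit j (pivot k) * c j = c k
  simp [bit_pivot]

theorem toFun_toPivots (c : Fin 11 → ZMod 2) : toFun (toPivots c) = c := by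
  funext j
  show ∑ q, bit j q * (∑ k, Pi.single (pivot k) (c k) : Cfsg.GolayPt → ZMod 2) q = c j
  simp only [Finset.sum_apply, Finset.mul_sum]
  rw [Finset.sum_comm]
  simp [Pi.single_apply, bit_pivot]

/-- The translate of the squares at a code point. -/
def translate (t : ℕ) : Cfsg.GolayPt → ZMod 2 := Cfsg.qrWord (t : ZMod 23)

/-- A word given by a combination of the standard words and the word at `none`. -/
def combWord (p : List ℕ × ℕ × ℕ) : Cfsg.GolayPt → ZMod 2 := fun q =>
  (p.1.map fun t => translate t q).sum + p.2.1 +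
    p.2.2 * (if q = none then 1 else 0)

theorem combWord_mem (p : List ℕ × ℕ × ℕ) :
    combWord p + Pi.single none (p.2.2 : ZMod 2) ∈ Cfsg.golayCode := by
  have h1 : (1 : Cfsg.GolayPt → ZMod 2) ∈ Cfsg.golayCode :=
    Submodule.subset_span (Or.inr rfl)
  have : combWord p + Pi.single none (p.2.2 : ZMod 2) =
      (p.1.map translate).sum + (p.2.1 : ZMod 2) • (1 : Cfsg.GolayPt → ZMod 2) := by
    funext q
    simp only [combWord, Pi.add_apply, Pi.list_sum_apply, List.map_map, Pi.smul_apply, Pi.one_apply,
      smul_eq_mul, mul_one, Pi.single_apply]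
    rw [add_assoc]
    split <;> simp [Function.comp_def, CharTwo.add_self_eq_zero]
  rw [this]
  refine add_mem (list_sum_mem fun x hx => ?_) (Cfsg.golayCode.smul_mem _ h1)
  obtain ⟨t, -, rfl⟩ := List.mem_map.1 hx
  exact Submodule.subset_span (Or.inl ⟨_, rfl⟩)

theorem basis_word : ∀ k : Fin 11, ∀ q : Cfsg.GolayPt,
    bit k q = combWord (basisCombs.getD k ([], 0, 0)) q := by
  decide +kernel

theorem basis_none : ∀ k : Fin 11, bit k none = 0 ∧ (basisCombs.getD k ([], 0, 0)).2.2 = 0 := by
  decide +kernel

theorem toWord_mem (c : Fin 11 → ZMod 2) :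
    toWord c ∈ Cfsg.golayCode ∧ toWord c none = 0 := by
  constructor
  · have : toWord c = ∑ k, c k • (fun q => bit k q) := by
      funext q
      show ∑ k, bit k q * c k = _
      simp [Finset.sum_apply, mul_comm]
    rw [this]
    refine Submodule.sum_mem _ fun k _ => Cfsg.golayCode.smul_mem _ ?_
    have h := combWord_mem (basisCombs.getD k ([], 0, 0))
    rw [(basis_none k).2, Nat.cast_zero, Pi.single_zero, add_zero] at h
    rwa [show (fun q => bit k q) = combWord (basisCombs.getD k ([], 0, 0)) from
      funext (basis_word k)]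
  · show ∑ k, bit k none * c k = 0
    simp [(basis_none _).1]

theorem qr_word : ∀ t : ZMod 23, ∀ q : Cfsg.GolayPt,
    Cfsg.qrWord t q = ∑ k : Fin 11, bit k q * Cfsg.qrWord t (pivot k) := by decide +kernel

theorem eq_toWord {w : Cfsg.GolayPt → ZMod 2} (hw : w ∈ Cfsg.golayCode) (h0 : w none = 0) :
    w = toWord fun k => w (pivot k) := by
  suffices ∀ v ∈ Cfsg.golayCode, v + v none • (1 : Cfsg.GolayPt → ZMod 2) =
      toWord fun k => (v + v none • (1 : Cfsg.GolayPt → ZMod 2)) (pivot k) by
    simpa [h0] using this w hw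
  intro v hv
  induction hv using Submodule.span_induction with
  | mem v hv =>
    rcases hv with ⟨t, rfl⟩ | hv
    · have : Cfsg.qrWord t none = 0 := rfl
      simp only [this, zero_smul, add_zero]
      exact funext (qr_word t)
    · obtain rfl : v = 1 := hv
      simp only [Pi.one_apply, one_smul, CharTwo.add_self_eq_zero, Pi.zero_apply]
      exact (map_zero toWord).symm
  | zero =>
    simp only [Pi.zero_apply, zero_smul, add_zero]
    exact (map_zero toWord).symm
  | add a b _ _ ha hb =>
    have h : a + b + (a + b) none • (1 : Cfsg.GolayPt → ZMod 2) =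
        (a + a none • (1 : Cfsg.GolayPt → ZMod 2)) + (b + b none • (1 : Cfsg.GolayPt → ZMod 2)) := by
      rw [Pi.add_apply, add_smul]; abel
    rw [h]
    conv_lhs => rw [ha, hb, ← map_add]
    rfl
  | smul r a _ ha =>
    have h : r • a + (r • a) none • (1 : Cfsg.GolayPt → ZMod 2) =
        r • (a + a none • (1 : Cfsg.GolayPt → ZMod 2)) := by
      rw [smul_add, Pi.smul_apply, smul_smul, smul_eq_mul]
    rw [h]
    rcases (fun s : ZMod 2 => (by decide +revert : s = 0 ∨ s = 1)) r with rfl | rfl
    · simp only [zero_smul, Pi.zero_apply]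
      exact (map_zero toWord).symm
    · simpa only [one_smul] using ha

end Cfsg.Agent.Lib.H2Cert.M23
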