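import Cfsg.Agent.Lib.H2Cert.M23Base
import Cfsg.Agent.Lib.H2Cert.M23CocodeData
import Cfsg.Agent.Lib.H2Cert.Fibre

/-!
Extensions of `Cfsg.Spor.M23` by the cocode module: there is at most one non-split one.
-/

set_option autoImplicit false

namespace Cfsg.Agent.Lib.H2Cert.M23Cocode

open Cfsg.Agent.Lib.Compute Cfsg.Agent.Lib.Compute.Mathieu M23

/-- Bit at a code point. -/
def bitN (k : Fin 11) (n : ℕ) : ZMod 2 := if (basis.getD k 0).testBit n then 1 else 0

/-- A matrix describes the action of a code pair on the functionals. -/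
noncomputable def matCheck (p : ℕ × ℕ) (M : List ℕ) : Bool :=
  goodPair p && decide (∀ j k : Fin 11, bitN j (getP 8 p.1 (ptEquiv (pivot k))) =
    if (M.getD j 0).testBit k then 1 else 0)

theorem matCheck_spec {p : ℕ × ℕ} {M : List ℕ} (h : matCheck p M = true) (c : Fin 11 → ZMod 2) :
    toFun (toPivots c ∘ ⇑((elt p : Equiv.Perm Cfsg.GolayPt)⁻¹)) = mulM 11 M c := by
  simp only [matCheck, Bool.and_eq_true, decide_eq_true_eq] at h
  funext j
  show ∑ q, bit j q *
      (∑ k, Pi.single (pivot k) (c k) : Cfsg.GolayPt → ZMod 2) ((elt p : Equiv.Perm Cfsg.GolayPt)⁻¹ q) =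
    ∑ k : Fin 11, (if (M.getD j 0).testBit (k : ℕ) then c k else 0)
  simp only [Finset.sum_apply, Finset.mul_sum]
  rw [Finset.sum_comm]
  refine Finset.sum_congr rfl fun k _ => ?_
  rw [Finset.sum_eq_single ((elt p : Equiv.Perm Cfsg.GolayPt) (pivot k))]
  · have hb : bit j ((elt p : Equiv.Perm Cfsg.GolayPt) (pivot k)) =
        bitN j (getP 8 p.1 (ptEquiv (pivot k))) := by
      rw [← (getP_elt h.1 (pivot k)).1]; rfl
    rw [hb, h.2 j k]
    cases (M.getD j 0).testBit k <;> simp
  · intro q _ hq
    have : (elt p : Equiv.Perm Cfsg.GolayPt)⁻¹ q ≠ pivot k := fun h' => hq (by simp [← h'])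
    rw [Pi.single_apply, if_neg this, mul_zero]
  · simp

theorem pcMats : (List.range 7).all (fun i => matCheck (pcPair i) (pres.mat i)) = true := by
  decide +kernel

theorem fusMats : (fusElts.zip fus).all (fun F => matCheck F.1 F.2.mat && fusCheck F.1 F.2) =
    true := by
  decide +kernel

theorem slots : slotsOK 11 pres.rels.length fus = true := by decide +kernel

theorem zip_snd : (fusElts.zip fus).map Prod.snd = fus := List.map_snd_zip (by decide +kernel)

theorem rows_eq : (pres.allRows cons fus).map (select keep) = some rows := by decide +kernel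

theorem tails_eq : pres.newRows corr = some tails := by decide +kernel

theorem cert_ok : certCheck (rows ++ [cls]) tails cert = true := by decide +kernel

theorem closed : pres.closedCheck 7 = true := by decide +kernel

theorem tails_zero {σ : ℕ → ZMod 2} (h : ∀ r ∈ rows, evN σ r = 0) (h' : evN σ cls = 0) :
    ∀ r ∈ tails, evN σ r = 0 := by
  refine evN_certCheck σ cert_ok fun r hr => ?_
  rcases List.mem_append.1 hr with hr | hr
  · exact h r hr
  · rw [List.mem_singleton] at hr; rw [hr]; exact h'

/-- Lifts with the class of a non-split extension. -/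
theorem exists_lifts_nonsplit {E : Type*} [Group E] [Finite E] {π : E →* ↥Cfsg.Spor.M23}
    {emb : (Fin 11 → ZMod 2) → E} (X : Ext 11 π emb)
    (hact : ∀ p M, matCheck p M = true → Acts 11 π emb (elt p) M)
    (hns : ∀ H : Subgroup E, ¬ Subgroup.IsComplement' π.ker H) :
    ∃ (x : ℕ → E) (σ : ℕ → ZMod 2), (∀ i, π (x i) = gen i) ∧
      Lifts pres emb x σ pres.tvar ∧ (∀ r ∈ rows, evN σ r = 0) ∧ evN σ cls = 1 := by
  have hgen : ∀ i, Acts 11 π emb (gen i) (pres.mat i) := by
    intro i
    by_cases hi : i < 7
    · exact hact _ _ (List.all_eq_true.1 pcMats i (List.mem_range.2 hi))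
    · have : pres.mat i = idM 11 := by
        rw [Pres.mat, List.getD_eq_getElem?_getD, List.getElem?_eq_none]
        · rfl
        · simp only [pres, List.length_cons, List.length_nil]; omega
      rw [gen_one (by omega), this]
      exact X.acts_one
  have hf := List.all_eq_true.1 fusMats
  obtain ⟨R, hR, hsel⟩ := Option.map_eq_some_iff.1 rows_eq
  obtain ⟨x, σ, hx, L, hrows⟩ := exists_lifts (D := pres) X gen hgen gen_rel
    ((fusElts.zip fus).map fun F => (elt F.1, F.2))
    (by rw [List.map_map]; exact zip_snd.symm ▸ slots)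
    (by
      intro F hF
      obtain ⟨F', hF', rfl⟩ := List.mem_map.1 hF
      exact hact _ _ (Bool.and_eq_true _ _ ▸ hf F' hF').1)
    (by
      intro F hF
      obtain ⟨F', hF', rfl⟩ := List.mem_map.1 hF
      exact fusCheck_spec (Bool.and_eq_true _ _ ▸ hf F' hF').2)
    (cons := cons) (R := R) (by rw [List.map_map]; exact zip_snd.symm ▸ hR)
  have hr : ∀ r ∈ rows, evN σ r = 0 := fun r hr => hrows r (mem_of_mem_select (hsel ▸ hr))
  refine ⟨x, σ, hx, L, hr, ?_⟩
  rcases (fun s : ZMod 2 => (by decide +revert : s = 0 ∨ s = 1)) (evN σ cls) with h | h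
  · obtain ⟨H, hH⟩ := exists_complement (D := pres) X gen hx L tails_eq (tails_zero hr h) closed
      words_nodup odd_index
    exact absurd hH (hns H)
  · exact h

/-- The non-split extension is unique. -/
theorem unique {E E' : Type*} [Group E] [Finite E] [Group E'] [Finite E']
    {π : E →* ↥Cfsg.Spor.M23} {π' : E' →* ↥Cfsg.Spor.M23}
    {emb : (Fin 11 → ZMod 2) → E} {emb' : (Fin 11 → ZMod 2) → E'}
    (X : Ext 11 π emb) (X' : Ext 11 π' emb')
    (hcompat : ∀ e e', π e = π' e' → ∀ c, ∃ c', e * emb c * e⁻¹ = emb c' ∧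
      e' * emb' c * e'⁻¹ = emb' c')
    (hact : ∀ p M, matCheck p M = true → Acts 11 π emb (elt p) M)
    (hact' : ∀ p M, matCheck p M = true → Acts 11 π' emb' (elt p) M)
    (hns : ∀ H : Subgroup E, ¬ Subgroup.IsComplement' π.ker H)
    (hns' : ∀ H : Subgroup E', ¬ Subgroup.IsComplement' π'.ker H) :
    Nonempty (E ≃* E') := by
  obtain ⟨x, σ, hx, L, hr, hc⟩ := exists_lifts_nonsplit X hact hns
  obtain ⟨x', σ', hx', L', hr', hc'⟩ := exists_lifts_nonsplit X' hact' hns'
  exact nonempty_mulEquiv (D := pres) X X' hcompat gen hx hx' L L' tails_eq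
    (tails_zero (fun r h => by rw [evN_add, hr r h, hr' r h, add_zero])
      (by rw [evN_add, hc, hc', CharTwo.add_self_eq_zero]))
    closed words_nodup odd_index

theorem point_word : ∀ q r : Cfsg.GolayPt,
    (Pi.single q 1 : Cfsg.GolayPt → ZMod 2) r +
        ∑ k : Fin 11, (if pivot k = r then bit k q else 0) =
      combWord (pointCombs.getD (ptEquiv q) ([], 0, 0)) r := by
  decide +kernel

theorem bit_kills : ∀ k : Fin 11, (∀ t : ZMod 23, ∑ q, bit k q * Cfsg.qrWord t q = 0) ∧
    ∑ q, bit k q = 0 ∧ bit k none = 0 := by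
  decide +kernel

/-- A map killing the code and the word at `none` factors through the functionals. -/
theorem eq_pivots {A : Type*} [AddGroup A] (θ : (Cfsg.GolayPt → ZMod 2) →+ A)
    (hker : ∀ w, θ w = 0 ↔ (w ∈ Cfsg.golayCode ∨ w + Pi.single none 1 ∈ Cfsg.golayCode))
    (w : Cfsg.GolayPt → ZMod 2) : θ w = θ (toPivots (toFun w)) := by
  have h2 : ∀ s : ZMod 2, θ (Pi.single none s) = 0 := by
    intro s
    rcases (fun s : ZMod 2 => (by decide +revert : s = 0 ∨ s = 1)) s with rfl | rfl
    · simp
    · refine (hker _).2 (Or.inr ?_)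
      rw [← Pi.single_add, CharTwo.add_self_eq_zero, Pi.single_zero]
      exact zero_mem _
  have hsingle : ∀ q s, Pi.single q s + toPivots (toFun (Pi.single q s)) ∈ θ.ker := by
    intro q s
    rcases (fun s : ZMod 2 => (by decide +revert : s = 0 ∨ s = 1)) s with rfl | rfl
    · simp
    · show θ _ = 0
      have h1 : toPivots (toFun (Pi.single q 1)) =
          fun r => ∑ k : Fin 11, (if pivot k = r then bit k q else 0) := by
        funext r
        have hk : ∀ k, toFun (Pi.single q 1) k = bit k q := fun k => by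
          rw [toFun_apply]
          exact (Finset.sum_eq_single q (fun p _ hp => by rw [Pi.single_eq_of_ne hp, mul_zero])
            (fun h => absurd (Finset.mem_univ q) h)).trans (by rw [Pi.single_eq_same, mul_one])
        rw [toPivots_apply, Finset.sum_apply]
        refine Finset.sum_congr rfl fun k _ => ?_
        rw [hk, Pi.single_apply]
        by_cases h : pivot k = r
        · rw [if_pos h, if_pos h.symm]
        · rw [if_neg h, if_neg fun h' => h h'.symm]
      have hsum : θ (Pi.single q 1 + toPivots (toFun (Pi.single q 1))) = 0 := by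
        have hp : ∀ r, ((Pi.single q 1 : Cfsg.GolayPt → ZMod 2) + toPivots (toFun (Pi.single q 1))) r =
            combWord (pointCombs.getD (ptEquiv q) ([], 0, 0)) r := by
          intro r
          rw [h1, Pi.add_apply]
          exact point_word q r
        generalize pointCombs.getD (ptEquiv q) ([], 0, 0) = p at hp
        rw [funext hp]
        have h := (hker _).2 (Or.inl (combWord_mem p))
        rwa [map_add, h2, add_zero] at h
      exact hsum
  have hall : w + toPivots (toFun w) ∈ θ.ker := by
    have hw : w = ∑ q, Pi.single q (w q) := (Finset.univ_sum_single w).symm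
    rw [hw, map_sum, map_sum, ← Finset.sum_add_distrib]
    exact AddSubgroup.sum_mem _ fun q _ => hsingle q _
  rw [AddMonoidHom.mem_ker, map_add, add_eq_zero_iff_eq_neg, ← map_neg,
    show -toPivots (toFun w) = toPivots (toFun w) from funext fun r => CharTwo.neg_eq _] at hall
  exact hall

/-- The functionals vanish on the kernel. -/
theorem toFun_eq_zero {w : Cfsg.GolayPt → ZMod 2}
    (h : w ∈ Cfsg.golayCode ∨ w + Pi.single none 1 ∈ Cfsg.golayCode) : toFun w = 0 := by
  have h1 : ∀ v ∈ Cfsg.golayCode, toFun v = 0 := by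
    intro v hv
    induction hv using Submodule.span_induction with
    | mem v hv =>
      funext k
      show ∑ q, bit k q * v q = 0
      rcases hv with ⟨t, rfl⟩ | hv
      · exact (bit_kills k).1 t
      · obtain rfl : v = 1 := hv
        simpa using (bit_kills k).2.1
    | zero => exact map_zero _
    | add a b _ _ ha hb => rw [map_add, ha, hb, add_zero]
    | smul r a _ ha =>
      rcases (fun s : ZMod 2 => (by decide +revert : s = 0 ∨ s = 1)) r with rfl | rfl
      · rw [zero_smul, map_zero]
      · rw [one_smul, ha]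
  rcases h with h | h
  · exact h1 w h
  · have hnone : toFun (Pi.single none 1) = 0 := by
      funext k
      show ∑ q, bit k q * (Pi.single none 1 : Cfsg.GolayPt → ZMod 2) q = 0
      simp [Pi.single_apply, (bit_kills k).2.2]
    have := h1 _ h
    rwa [map_add, hnone, add_zero] at this

end Cfsg.Agent.Lib.H2Cert.M23Cocode
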