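import Cfsg.Agent.Lib.H2Cert.M23Base
import Cfsg.Agent.Lib.H2Cert.M23CodeData

/-!
Extensions of `Cfsg.Spor.M23` by the module of code words vanishing at `none` split.
-/

set_option autoImplicit false

namespace Cfsg.Agent.Lib.H2Cert.M23Code

open Cfsg.Agent.Lib.Compute Cfsg.Agent.Lib.Compute.Mathieu M23

/-- Bit at a code point. -/
def bitN (k : Fin 11) (n : ℕ) : ZMod 2 := if (basis.getD k 0).testBit n then 1 else 0

/-- A matrix describes the action of a code pair on the words. -/
noncomputable def matCheck (p : ℕ × ℕ) (M : List ℕ) : Bool :=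
  goodPair p && decide (∀ i : Fin 11, ∀ q : Cfsg.GolayPt, bitN i (getP 8 p.2 (ptEquiv q)) =
    ∑ j : Fin 11, if (M.getD j 0).testBit i then bitN j (ptEquiv q) else 0)

theorem matCheck_spec {p : ℕ × ℕ} {M : List ℕ} (h : matCheck p M = true) (c : Fin 11 → ZMod 2) :
    toWord c ∘ ⇑((elt p : Equiv.Perm Cfsg.GolayPt)⁻¹) = toWord (mulM 11 M c) := by
  simp only [matCheck, Bool.and_eq_true, decide_eq_true_eq] at h
  funext q
  show ∑ i : Fin 11, bit i ((elt p : Equiv.Perm Cfsg.GolayPt)⁻¹ q) * c i =
    ∑ j : Fin 11, bit j q * ∑ i : Fin 11, (if (M.getD j 0).testBit (i : ℕ) then c i else 0)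
  simp only [Finset.mul_sum]
  rw [Finset.sum_comm]
  refine Finset.sum_congr rfl fun i _ => ?_
  have : bit i ((elt p : Equiv.Perm Cfsg.GolayPt)⁻¹ q) = bitN i (getP 8 p.2 (ptEquiv q)) := by
    rw [← (getP_elt h.1 q).2]; rfl
  rw [this, h.2 i q, Finset.sum_mul]
  refine Finset.sum_congr rfl fun j _ => ?_
  cases (M.getD j 0).testBit i <;> simp [bit, bitN]

theorem pcMats : (List.range 7).all (fun i => matCheck (pcPair i) (pres.mat i)) = true := by
  decide +kernel

theorem fusMats : (fusElts.zip fus).all (fun F => matCheck F.1 F.2.mat && fusCheck F.1 F.2) =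
    true := by
  decide +kernel

theorem slots : slotsOK 11 pres.rels.length fus = true := by decide +kernel

theorem zip_snd : (fusElts.zip fus).map Prod.snd = fus := List.map_snd_zip (by decide +kernel)

theorem rows_eq : (pres.allRows cons fus).map (select keep) = some rows := by decide +kernel

theorem tails_eq : pres.newRows corr = some tails := by decide +kernel

theorem cert_ok : certCheck rows tails cert = true := by decide +kernel

theorem closed : pres.closedCheck 7 = true := by decide +kernel

/-- An extension of the Mathieu group by the code module splits. -/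
theorem split {E : Type*} [Group E] [Finite E] {π : E →* ↥Cfsg.Spor.M23}
    {emb : (Fin 11 → ZMod 2) → E} (X : Ext 11 π emb)
    (hact : ∀ p M, matCheck p M = true → Acts 11 π emb (elt p) M) :
    ∃ H : Subgroup E, Subgroup.IsComplement' π.ker H := by
  have hgen : ∀ i, Acts 11 π emb (gen i) (pres.mat i) := by
    intro i
    by_cases hi : i < 7
    · exact hact _ _ (List.all_eq_true.1 pcMats i (List.mem_range.2 hi))
    · have : pres.mat i = idM 11 := by
        rw [Pres.mat, List.getD_eq_getElem?_getD, List.getElem?_eq_none]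
        · rfl
        · simp only [pres, List.length_cons, List.length_nil]; omega
      rw [gen_one (by omega), this]
      exact X.acts_one
  have hf := List.all_eq_true.1 fusMats
  obtain ⟨R, hR, hsel⟩ := Option.map_eq_some_iff.1 rows_eq
  obtain ⟨x, σ, hx, L, hrows⟩ := exists_lifts (D := pres) X gen hgen gen_rel
    ((fusElts.zip fus).map fun F => (elt F.1, F.2))
    (by rw [List.map_map]; exact zip_snd.symm ▸ slots)
    (by
      intro F hF
      obtain ⟨F', hF', rfl⟩ := List.mem_map.1 hF
      exact hact _ _ (Bool.and_eq_true _ _ ▸ hf F' hF').1)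
    (by
      intro F hF
      obtain ⟨F', hF', rfl⟩ := List.mem_map.1 hF
      exact fusCheck_spec (Bool.and_eq_true _ _ ▸ hf F' hF').2)
    (cons := cons) (R := R) (by rw [List.map_map]; exact zip_snd.symm ▸ hR)
  exact exists_complement (D := pres) X gen hx L tails_eq
    (evN_certCheck σ cert_ok fun r hr => hrows r (mem_of_mem_select (hsel ▸ hr)))
    closed words_nodup odd_index

end Cfsg.Agent.Lib.H2Cert.M23Code
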