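import Cfsg.Agent.Lib.H2Cert.Basic
import Cfsg.Agent.Lib.Gaschutz

/-!
Existence of lifts satisfying the rows, and a complement from a certificate: if the tails of
corrected lifts are combinations of rows vanishing on the extension, then the corrected lifts
generate a complement over a subgroup of odd index, so the extension splits.
-/

set_option autoImplicit false

namespace Cfsg.Agent.Lib.H2Cert

theorem mapM_some_mem {α β : Type*} {f : α → Option β} : ∀ {l : List α} {l' : List β},
    l.mapM f = some l' →
      (∀ a ∈ l, ∃ b ∈ l', f a = some b) ∧ ∀ b ∈ l', ∃ a ∈ l, f a = some b := by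
  intro l
  induction l with
  | nil => intro l' h; simp_all
  | cons a l ih =>
    intro l' h
    rw [List.mapM_cons] at h
    simp only [Option.bind_eq_bind, Option.bind_eq_some_iff, Option.pure_def,
      Option.some.injEq] at h
    obtain ⟨b, hb, m, hm, rfl⟩ := h
    obtain ⟨h1, h2⟩ := ih hm
    refine ⟨?_, ?_⟩
    · intro a' ha'
      rcases List.mem_cons.1 ha' with rfl | ha'
      · exact ⟨b, List.mem_cons_self .., hb⟩
      · obtain ⟨b', hb', e⟩ := h1 a' ha'
        exact ⟨b', List.mem_cons_of_mem _ hb', e⟩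
    · intro b' hb'
      rcases List.mem_cons.1 hb' with rfl | hb'
      · exact ⟨a, List.mem_cons_self .., hb⟩
      · obtain ⟨a', ha', e⟩ := h2 b' hb'
        exact ⟨a', List.mem_cons_of_mem _ ha', e⟩

theorem mem_of_mem_select : ∀ {m : ℕ} {l : List ℕ} {r : ℕ}, r ∈ select m l → r ∈ l := by
  intro m l
  induction l generalizing m with
  | nil => intro r h; simp [select] at h
  | cons a l ih =>
    intro r h
    rw [select] at h
    split at h
    · rcases List.mem_cons.1 h with rfl | h
      · exact List.mem_cons_self ..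
      · exact List.mem_cons_of_mem _ (ih h)
    · exact List.mem_cons_of_mem _ (ih h)

theorem evN_combine (σ : ℕ → ZMod 2) : ∀ {m : ℕ} {l : List ℕ},
    (∀ r ∈ l, evN σ r = 0) → evN σ (combine m l) = 0 := by
  intro m l
  induction l generalizing m with
  | nil => intro _; simp [combine]
  | cons a l ih =>
    intro h
    have h' : ∀ r ∈ l, evN σ r = 0 := fun r hr => h r (List.mem_cons_of_mem _ hr)
    rw [combine]
    split
    · rw [evN_xor, ih h', h a (List.mem_cons_self ..), add_zero]
    · exact ih h'

theorem evN_certCheck (σ : ℕ → ZMod 2) {rows diffs cert : List ℕ}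
    (h : certCheck rows diffs cert = true) (hrows : ∀ r ∈ rows, evN σ r = 0) :
    ∀ v ∈ diffs, evN σ v = 0 := by
  intro v hv
  simp only [certCheck, Bool.and_eq_true, beq_iff_eq] at h
  obtain ⟨q, hq⟩ := List.getElem?_of_mem hv
  have hlt : q < cert.length := by
    rw [← h.1]; exact (List.getElem?_eq_some_iff.1 hq).1
  have hz : (v, cert[q]) ∈ diffs.zip cert := by
    refine List.mem_iff_getElem?.2 ⟨q, ?_⟩
    simp [List.getElem?_zip_eq_some, hq, hlt]
  have := List.all_eq_true.1 h.2 _ hz
  rw [beq_iff_eq] at this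
  simp only at this
  rw [this]
  exact evN_combine σ hrows

theorem evV_eq_zero_of_forall {d : ℕ} (σ : ℕ → ZMod 2) {v : List ℕ}
    (h : ∀ r ∈ v, evN σ r = 0) : evV d σ v = 0 := by
  funext k
  rcases lt_or_ge (k : ℕ) v.length with hk | hk
  · simp only [evV, List.getD_eq_getElem?_getD, List.getElem?_eq_getElem hk, Option.getD_some,
      Pi.zero_apply]
    exact h _ (List.getElem_mem hk)
  · simp [evV, List.getD_eq_getElem?_getD, List.getElem?_eq_none hk]

theorem forall_mem_vxor {d : ℕ} (σ : ℕ → ZMod 2) {a b : List ℕ}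
    (h : evV d σ (vxor d a b) = 0) : ∀ r ∈ vxor d a b, evN σ r = 0 := by
  intro r hr
  simp only [vxor, List.mem_map, List.mem_range] at hr
  obtain ⟨k, hk, rfl⟩ := hr
  have := congrFun h ⟨k, hk⟩
  rw [evV, vxor, getD_map_range hk] at this
  exact this

/-- The assignment changed on `len` consecutive slots from `start` on. -/
def setSlots (d start len : ℕ) (vals : ℕ → Fin d → ZMod 2) (σ₀ : ℕ → ZMod 2) (m : ℕ) : ZMod 2 :=
  if h : d * start ≤ m ∧ m < d * (start + len) then
    vals (m / d - start) ⟨m % d, Nat.mod_lt _ (Nat.pos_of_ne_zero fun e => by simp [e] at h)⟩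
  else σ₀ m

theorem setSlots_of_lt {d start len : ℕ} {vals : ℕ → Fin d → ZMod 2} {σ₀ : ℕ → ZMod 2} {m : ℕ}
    (h : m < d * start) : setSlots d start len vals σ₀ m = σ₀ m :=
  dif_neg fun h' => absurd h'.1 (by omega)

theorem setSlots_slot {d start len : ℕ} {vals : ℕ → Fin d → ZMod 2} {σ₀ : ℕ → ZMod 2} {r : ℕ}
    (hr : r < len) (k : Fin d) :
    setSlots d start len vals σ₀ (d * (start + r) + k) = vals r k := by
  have hd : 0 < d := lt_of_le_of_lt (Nat.zero_le _) k.isLt
  have h2 : d * (start + r) + k < d * (start + len) := by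
    calc d * (start + r) + k < d * (start + r) + d := by omega
      _ = d * (start + r + 1) := by ring
      _ ≤ d * (start + len) := Nat.mul_le_mul_left _ (by omega)
  have h1 : d * start ≤ d * (start + r) + k :=
    le_add_right (Nat.mul_le_mul_left _ (by omega))
  rw [setSlots, dif_pos ⟨h1, h2⟩]
  congr 1
  · rw [Nat.mul_add_div hd, Nat.div_eq_of_lt k.isLt]; omega
  · exact Fin.ext (by simp [Nat.mul_add_mod, Nat.mod_eq_of_lt k.isLt])

variable {E G : Type*} [Group E] [Group G]

/-- An extension of `G` by the module given by `emb`. -/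
structure Ext (d : ℕ) (π : E →* G) (emb : (Fin d → ZMod 2) → E) : Prop where
  surj : Function.Surjective π
  inj : Function.Injective emb
  emb_add : ∀ a b, emb (a + b) = emb a * emb b
  ker : ∀ e, π e = 1 ↔ ∃ c, emb c = e

/-- All lifts of `g` act by the matrix `M`. -/
def Acts (d : ℕ) (π : E →* G) (emb : (Fin d → ZMod 2) → E) (g : G) (M : List ℕ) : Prop :=
  ∀ e, π e = g → ∀ c, e * emb c * e⁻¹ = emb (mulM d M c)

variable {d : ℕ} {π : E →* G} {emb : (Fin d → ZMod 2) → E}

theorem Ext.emb_zero (X : Ext d π emb) : emb 0 = 1 := by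
  have h := X.emb_add 0 0
  rw [add_zero] at h
  exact (mul_eq_left.1 h.symm)

theorem Ext.eq_zero_of_mul (X : Ext d π emb) {a : Fin d → ZMod 2} {e : E} (h : e = emb a * e) :
    a = 0 :=
  X.inj (by rw [X.emb_zero]; exact (mul_eq_right.1 h.symm))

theorem Ext.exists_tail (X : Ext d π emb) {a b : E} (h : π a = π b) :
    ∃ c, a = emb c * b := by
  obtain ⟨c, hc⟩ := (X.ker (a * b⁻¹)).1 (by simp [h])
  exact ⟨c, by rw [hc, inv_mul_cancel_right]⟩

theorem Ext.acts_one (X : Ext d π emb) : Acts d π emb 1 (idM d) := by
  intro e he c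
  obtain ⟨a, rfl⟩ := (X.ker e).1 he
  rw [mulM_idM, ← X.emb_add, add_comm, X.emb_add, mul_inv_cancel_right]

theorem map_prod_map (π : E →* G) {x : ℕ → E} {Xg : ℕ → G} (hx : ∀ i, π (x i) = Xg i)
    (w : List ℕ) : π (w.map x).prod = (w.map Xg).prod := by
  rw [map_list_prod, List.map_map]
  congr 1
  exact List.map_congr_left fun i _ => hx i

theorem map_letters {D : Pres} {emb : (Fin D.dim → ZMod 2) → E} {x : ℕ → E} {σ : ℕ → ZMod 2}
    (w : List ℕ) :
    ((letters w).map (ival D.dim emb x σ)).prod = (w.map x).prod := by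
  rw [letters, List.map_map]
  rfl

variable {D : Pres} {π : E →* G} {emb : (Fin D.dim → ZMod 2) → E} {x : ℕ → E} {σ : ℕ → ZMod 2}

theorem consRow_zero (X : Ext D.dim π emb) (L : Lifts D emb x σ D.tvar) {kt : ℕ × ℕ}
    {v : List ℕ} (h : D.consRow kt = some v) : ∀ r ∈ v, evN σ r = 0 := by
  obtain ⟨k, t⟩ := kt
  unfold Pres.consRow at h
  split at h
  next => simp at h
  next r hr =>
    have h' := L.diff h
    simp only [List.map_cons, List.map_nil, List.prod_cons, List.prod_nil, mul_one, ival,
      map_letters] at h'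
    rw [L.rel t r hr] at h'
    have hz := X.eq_zero_of_mul h'
    unfold Pres.diff at h
    split at h
    next p q _ _ =>
      split at h
      next =>
        obtain rfl := Option.some.inj h
        exact forall_mem_vxor σ hz
      next => simp at h
    next => simp at h

theorem fusRow_zero (X : Ext D.dim π emb) (L : Lifts D emb x σ D.tvar) {F : Fus} {g : E}
    (hg : ∀ c, g * emb c * g⁻¹ = emb (mulM D.dim F.mat c))
    (hoff : ∀ r < F.src.length, g * ((F.src.getD r []).map x).prod * g⁻¹ =
      emb (evV D.dim σ (varV D.dim (F.base + D.dim * r))) * ((F.img.getD r []).map x).prod)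
    {p : List ℕ × List ℕ} (hp : ∀ r ∈ p.1 ++ p.2, r < F.src.length) {v : List ℕ}
    (h : D.fusRow F p = some v) : ∀ r ∈ v, evN σ r = 0 := by
  have key : ∀ q : List ℕ, (∀ r ∈ q, r < F.src.length) →
      ((F.imgItems D.dim q).map (ival D.dim emb x σ)).prod =
        g * ((F.srcItems q).map (ival D.dim emb x σ)).prod * g⁻¹ := by
    intro q
    induction q with
    | nil => intro _; simp [Fus.imgItems, Fus.srcItems]
    | cons a q ih =>
      intro hq
      have hq' : ∀ r ∈ q, r < F.src.length := fun r hr => hq r (List.mem_cons_of_mem _ hr)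
      simp only [Fus.imgItems, Fus.srcItems] at ih
      simp only [Fus.imgItems, Fus.srcItems, List.flatMap_cons, List.map_append, List.prod_append,
        List.map_cons, List.prod_cons, ival, map_letters, ih hq']
      rw [← hoff a (hq a (List.mem_cons_self ..))]
      group
  unfold Pres.fusRow at h
  split at h
  next a b ha hb =>
    obtain rfl := Option.some.inj h
    apply forall_mem_vxor
    have h1 := L.diff ha
    have h2 := L.diff hb
    rw [key _ (fun r hr => hp r (List.mem_append_left _ hr)),
      key _ (fun r hr => hp r (List.mem_append_right _ hr)), h2] at h1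
    have h3 : g * (emb (evV D.dim σ b) * ((F.srcItems p.2).map (ival D.dim emb x σ)).prod) * g⁻¹ =
        emb (mulM D.dim F.mat (evV D.dim σ b)) *
          (g * ((F.srcItems p.2).map (ival D.dim emb x σ)).prod * g⁻¹) := by
      rw [← hg]; group
    rw [h3] at h1
    have h4 := X.inj (mul_right_cancel h1)
    rw [evV_vxor, evV_actV, h4]
    funext k
    exact CharTwo.add_self_eq_zero _
  next => simp at h

/-- Offsets of the conjugating elements can be stored in the variables after `start`. -/
theorem exists_offsets (X : Ext D.dim π emb) (x : ℕ → E) : ∀ (fs : List (G × Fus)) (start : ℕ),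
    slotsOK D.dim start (fs.map Prod.snd) = true →
    (∀ F ∈ fs, ∀ r < F.2.src.length, F.1 * π ((F.2.src.getD r []).map x).prod * F.1⁻¹ =
        π ((F.2.img.getD r []).map x).prod) →
    ∀ σ₀ : ℕ → ZMod 2, ∃ σ : ℕ → ZMod 2, (∀ m < D.dim * start, σ m = σ₀ m) ∧
      ∀ F ∈ fs, (∀ p ∈ F.2.pairs, ∀ r ∈ p.1 ++ p.2, r < F.2.src.length) ∧
        ∃ g : E, π g = F.1 ∧ ∀ r < F.2.src.length, g * ((F.2.src.getD r []).map x).prod * g⁻¹ =
          emb (evV D.dim σ (varV D.dim (F.2.base + D.dim * r))) *
            ((F.2.img.getD r []).map x).prod := by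
  intro fs
  induction fs with
  | nil => intro start _ _ σ₀; exact ⟨σ₀, fun _ _ => rfl, by simp⟩
  | cons a fs ih =>
    intro start hs hc σ₀
    simp only [List.map_cons, slotsOK, Bool.and_eq_true, beq_iff_eq, List.all_eq_true,
      decide_eq_true_eq] at hs
    obtain ⟨⟨hbase, hpairs⟩, hrest⟩ := hs
    obtain ⟨g, hg⟩ := X.surj a.1
    have hex : ∀ r, ∃ c, r < a.2.src.length → g * ((a.2.src.getD r []).map x).prod * g⁻¹ =
        emb c * ((a.2.img.getD r []).map x).prod := by
      intro r
      by_cases hr : r < a.2.src.length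
      · have h := hc a (List.mem_cons_self ..) r hr
        obtain ⟨c, e⟩ := X.exists_tail (a := g * ((a.2.src.getD r []).map x).prod * g⁻¹)
          (b := ((a.2.img.getD r []).map x).prod) (by rw [map_mul, map_mul, map_inv, hg, h])
        exact ⟨c, fun _ => e⟩
      · exact ⟨0, fun h => absurd h hr⟩
    choose vals hvals using hex
    obtain ⟨σ, h1, h2⟩ := ih (start + a.2.src.length) hrest
      (fun F hF => hc F (List.mem_cons_of_mem _ hF))
      (setSlots D.dim start a.2.src.length vals σ₀)
    refine ⟨σ, fun m hm => ?_, ?_⟩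
    · rw [h1 m (lt_of_lt_of_le hm (Nat.mul_le_mul_left _ (by omega))), setSlots_of_lt hm]
    · intro F hF
      rcases List.mem_cons.1 hF with rfl | hF
      · refine ⟨hpairs, g, hg, fun r hr => ?_⟩
        rw [hvals r hr, hbase, ← Nat.mul_add, evV_varV]
        congr 2
        funext k
        have hk : D.dim * (start + r) + k < D.dim * (start + F.2.src.length) := by
          calc D.dim * (start + r) + k < D.dim * (start + r + 1) := by
                rw [Nat.mul_add D.dim (start + r) 1]; omega
            _ ≤ _ := Nat.mul_le_mul_left _ (by omega)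
        rw [h1 _ hk, setSlots_slot hr]
      · exact h2 F hF

/-- Lifts exist whose tails and offsets satisfy all rows. -/
theorem exists_lifts (X : Ext D.dim π emb) (Xg : ℕ → G)
    (hact : ∀ i, Acts D.dim π emb (Xg i) (D.mat i))
    (hrel : ∀ r ∈ D.rels, Xg r.j * Xg r.i = (r.word.map Xg).prod)
    (fs : List (G × Fus))
    (hslots : slotsOK D.dim D.rels.length (fs.map Prod.snd) = true)
    (hfact : ∀ F ∈ fs, Acts D.dim π emb F.1 F.2.mat)
    (hfus : ∀ F ∈ fs, ∀ r < F.2.src.length,
      F.1 * ((F.2.src.getD r []).map Xg).prod * F.1⁻¹ = ((F.2.img.getD r []).map Xg).prod)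
    {cons : List (ℕ × ℕ)} {R : List ℕ}
    (hR : D.allRows cons (fs.map Prod.snd) = some R) :
    ∃ (x : ℕ → E) (σ : ℕ → ZMod 2), (∀ i, π (x i) = Xg i) ∧ Lifts D emb x σ D.tvar ∧
      ∀ r ∈ R, evN σ r = 0 := by
  choose x hx using fun i => X.surj (Xg i)
  have hp := map_prod_map π hx
  have hex : ∀ t : ℕ, ∃ c, ∀ r : Rel, D.rels[t]? = some r →
      x r.j * x r.i = emb c * (r.word.map x).prod := by
    intro t
    rcases ht : D.rels[t]? with _ | r
    · exact ⟨0, by simp⟩
    · obtain ⟨c, hc⟩ := X.exists_tail (a := x r.j * x r.i) (b := (r.word.map x).prod)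
        (by rw [map_mul, hx, hx, hp, hrel r (List.mem_of_getElem? ht)])
      exact ⟨c, by rintro _ ⟨⟩; exact hc⟩
  choose tails htails using hex
  obtain ⟨σ, hlow, hfs⟩ := exists_offsets X x fs D.rels.length hslots
    (fun F hF r hr => by rw [hp, hp]; exact hfus F hF r hr)
    (setSlots D.dim 0 D.rels.length tails 0)
  have L : Lifts D emb x σ D.tvar := by
    refine ⟨X.emb_add, fun i c => hact i (x i) (hx i) c, fun t r hr => ?_⟩
    have ht : t < D.rels.length := (List.getElem?_eq_some_iff.1 hr).1
    rw [htails t r hr, Pres.tvar, evV_varV]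
    congr 2
    funext k
    have hk : D.dim * t + k < D.dim * D.rels.length := by
      calc D.dim * t + k < D.dim * (t + 1) := by rw [Nat.mul_add D.dim t 1]; omega
        _ ≤ _ := Nat.mul_le_mul_left _ (by omega)
    rw [hlow _ hk]
    have := setSlots_slot (start := 0) (σ₀ := 0) (vals := tails) ht k
    rw [Nat.zero_add] at this
    exact this.symm
  refine ⟨x, σ, hx, L, ?_⟩
  unfold Pres.allRows at hR
  split at hR
  next A B hA hB =>
    obtain rfl := Option.some.inj hR
    intro r hr
    rw [List.mem_flatten] at hr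
    obtain ⟨v, hv, hrv⟩ := hr
    rcases List.mem_append.1 hv with hv | hv
    · obtain ⟨kt, -, he⟩ := (mapM_some_mem hA).2 v hv
      exact consRow_zero X L he r hrv
    · obtain ⟨Fp, hFp, he⟩ := (mapM_some_mem hB).2 v hv
      simp only [List.mem_flatMap, List.mem_map] at hFp
      obtain ⟨F0, ⟨F, hF, rfl⟩, p, hp', rfl⟩ := hFp
      obtain ⟨hb, g, hg, hoff⟩ := hfs F hF
      exact fusRow_zero X L (hfact F hF g hg) hoff (hb p hp') he r hrv
  next => simp at hR

/-- The extension splits if the tails of corrected lifts vanish on it. -/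
theorem exists_complement [Finite E] [Finite G] (X : Ext D.dim π emb) (Xg : ℕ → G)
    (hx : ∀ i, π (x i) = Xg i) (L : Lifts D emb x σ D.tvar) {U : List (List ℕ)}
    {T : List ℕ} (hT : D.newRows U = some T) (hzero : ∀ r ∈ T, evN σ r = 0) {n : ℕ}
    (hclosed : D.closedCheck n = true)
    (hnodup : ((normalWords n).map fun w => (w.map Xg).prod).Nodup)
    (hodd : Nat.Coprime 2 (Nat.card G / (normalWords n).length)) :
    ∃ H : Subgroup E, Subgroup.IsComplement' π.ker H := by
  classical
  have hker : ∀ e, e ∈ π.ker ↔ ∃ c, emb c = e := fun e => MonoidHom.mem_ker.trans (X.ker e)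
  -- the corrected lifts
  let y : ℕ → E := fun i => emb (evV D.dim σ (U.getD i [])) * x i
  have hy : ∀ i, π (y i) = Xg i := by
    intro i
    show π (emb _ * x i) = Xg i
    rw [map_mul, (X.ker _).2 ⟨_, rfl⟩, one_mul, hx]
  have hnew : ∀ q : List ℕ,
      ((newItems U q).map (ival D.dim emb x σ)).prod = (q.map y).prod := by
    intro q
    induction q with
    | nil => simp [newItems]
    | cons a q ih =>
      simp only [newItems] at ih
      simp only [newItems, List.flatMap_cons, List.map_append, List.prod_append, List.map_cons,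
        List.map_nil, List.prod_cons, List.prod_nil, mul_one, ival, ih, y]
  have L' : Lifts D emb y 0 (fun _ => []) := by
    refine ⟨X.emb_add, fun i c => ?_, fun t r hr => ?_⟩
    · show emb _ * x i * emb c * (emb _ * x i)⁻¹ = _
      generalize evV D.dim σ (U.getD i []) = u
      rw [show emb u * x i * emb c * (emb u * x i)⁻¹ =
        emb u * (x i * emb c * (x i)⁻¹) * (emb u)⁻¹ by group, L.act, ← X.emb_add, add_comm,
        X.emb_add, mul_inv_cancel_right]
    · rw [evV_nil, X.emb_zero, one_mul]
      rw [Pres.newRows, Option.map_eq_some_iff] at hT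
      obtain ⟨vs, hvs, rfl⟩ := hT
      obtain ⟨v, hv, he⟩ := (mapM_some_mem hvs).1 r (List.mem_of_getElem? hr)
      have h := L.diff he
      rw [hnew, hnew] at h
      rw [evV_eq_zero_of_forall σ (fun q hq => hzero q (List.mem_flatten.2 ⟨v, hv, hq⟩)),
        X.emb_zero, one_mul] at h
      simpa using h
  -- the group generated by them consists of the normal words
  let W : Set E := {e | ∃ w ∈ normalWords n, (w.map y).prod = e}
  have hnil : [] ∈ normalWords n := by
    clear hclosed hnodup hodd
    induction n with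
    | zero => simp [normalWords]
    | succ m ih => simp [normalWords, ih]
  have hlt : ∀ {m : ℕ} {w : List ℕ}, w ∈ normalWords m → ∀ i ∈ w, i < m := by
    intro m
    induction m with
    | zero => intro w hw i hi; simp [normalWords] at hw; simp [hw] at hi
    | succ m ih =>
      intro w hw i hi
      simp only [normalWords, List.mem_append, List.mem_map] at hw
      rcases hw with hw | ⟨w', hw', rfl⟩
      · exact (ih hw i hi).trans (Nat.lt_succ_self m)
      · rcases List.mem_append.1 hi with hi | hi
        · exact (ih hw' i hi).trans (Nat.lt_succ_self m)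
        · rw [List.mem_singleton] at hi; omega
  have hmul : ∀ i < n, ∀ e ∈ W, e * y i ∈ W := by
    rintro i hi e ⟨w, hw, rfl⟩
    have h := List.all_eq_true.1 (List.all_eq_true.1 hclosed w hw) i (List.mem_range.2 hi)
    split at h
    next st hst =>
      refine ⟨st.2, of_decide_eq_true h, ?_⟩
      have h' := L'.feed _ _ _ _ hst
      simp only [sval, evV_nil, X.emb_zero, one_mul] at h'
      rw [← h', show evV D.dim (0 : ℕ → ZMod 2) st.1 = 0 from funext fun k => by simp [evV, evN],
        X.emb_zero, one_mul]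
    next => simp at h
  have hpow : ∀ i < n, ∀ (k : ℕ), ∀ e ∈ W, e * y i ^ k ∈ W := by
    intro i hi k
    induction k with
    | zero => intro e he; simpa using he
    | succ k ih => intro e he; rw [pow_succ, ← mul_assoc]; exact hmul i hi _ (ih e he)
  let A : Subgroup E := Subgroup.closure {e | ∃ i < n, y i = e}
  have hAW : ∀ e ∈ A, e ∈ W := by
    intro e he
    induction he using Subgroup.closure_induction_right with
    | one => exact ⟨[], hnil, by simp⟩
    | mul_right a _ b hb ih => obtain ⟨i, hi, rfl⟩ := hb; exact hmul i hi a ih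
    | mul_inv_cancel a _ b hb ih =>
      obtain ⟨i, hi, rfl⟩ := hb
      obtain ⟨k, hk⟩ : ∃ k, y i ^ k = (y i)⁻¹ := by
        refine ⟨orderOf (y i) - 1, eq_inv_of_mul_eq_one_left ?_⟩
        rw [← pow_succ, Nat.sub_add_cancel (orderOf_pos (y i)), pow_orderOf_eq_one]
      rw [← hk]; exact hpow i hi k a ih
  have hWA : ∀ w ∈ normalWords n, (w.map y).prod ∈ A := by
    intro w hw
    refine list_prod_mem fun e he => ?_
    obtain ⟨i, hi, rfl⟩ := List.mem_map.1 he
    exact Subgroup.subset_closure ⟨i, hlt hw i hi, rfl⟩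
  have hinj : ∀ w ∈ normalWords n, π (w.map y).prod = 1 → w = [] := by
    intro w hw h1
    rw [map_prod_map π hy] at h1
    exact List.inj_on_of_nodup_map hnodup hw hnil (by simpa using h1)
  have hdisj : A ⊓ π.ker = ⊥ := by
    rw [eq_bot_iff]
    rintro e ⟨heA, hek⟩
    obtain ⟨w, hw, rfl⟩ := hAW e heA
    rw [hinj w hw hek]
    simp
  have hcard : Nat.card (A.map π) = (normalWords n).length := by
    have : ((A.map π : Subgroup G) : Set G) =
        ↑(((normalWords n).map fun w => (w.map Xg).prod).toFinset) := by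
      ext g
      simp only [Subgroup.coe_map, Set.mem_image, SetLike.mem_coe, List.coe_toFinset,
        Set.mem_ofPred_eq, List.mem_map]
      constructor
      · rintro ⟨e, he, rfl⟩
        obtain ⟨w, hw, rfl⟩ := hAW e he
        exact ⟨w, hw, (map_prod_map π hy w).symm⟩
      · rintro ⟨w, hw, rfl⟩
        exact ⟨_, hWA w hw, map_prod_map π hy w⟩
    rw [← SetLike.coe_sort_coe, Nat.card_coe_set_eq, this, Set.ncard_coe_finset,
      List.toFinset_card_of_nodup hnodup, List.length_map]
  -- extend it to the whole group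
  have : IsMulCommutative π.ker := ⟨⟨fun a b => by
    obtain ⟨u, hu⟩ := (hker _).1 a.2
    obtain ⟨v, hv⟩ := (hker _).1 b.2
    apply Subtype.ext
    show (a : E) * b = b * a
    rw [← hu, ← hv, ← X.emb_add, ← X.emb_add, add_comm]⟩⟩
  have hindex : (π.ker ⊔ A).index = Nat.card G / (normalWords n).length := by
    rw [sup_comm, ← Subgroup.comap_map_eq, Subgroup.index_comap_of_surjective _ X.surj,
      ← Subgroup.card_mul_index (A.map π), hcard,
      Nat.mul_div_cancel_left _ (List.length_pos_of_mem hnil)]
  have hcardK : Nat.card π.ker = 2 ^ D.dim := by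
    have hset : ((π.ker : Subgroup E) : Set E) = Set.range emb :=
      Set.ext fun e => hker e
    rw [← SetLike.coe_sort_coe, hset, Nat.card_range_of_injective X.inj]
    simp
  exact Gaschutz.exists_complement π.ker (π.ker ⊔ A) le_sup_left
    (by rw [hindex, hcardK]; exact hodd.pow_left _) A le_sup_right hdisj rfl

end Cfsg.Agent.Lib.H2Cert
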